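import Groth.Agent.S12002
import Groth.Agent.AVVanish.TauEquiv
import Groth.Agent.AVEuler.IsogIndex
import Groth.Agent.Lib.AbDualBase
import Groth.Agent.AmpleX.BaseChange
import Groth.Agent.AmpleX.RelAffine
import Groth.Agent.GrpSchLib.HomFinite
import Groth.Agent.DimLift.Basic

/-!
# The map attached to an ample module has finite geometric fibres
-/

noncomputable section

set_option autoImplicit false
set_option backward.isDefEq.respectTransparency false
set_option backward.isDefEq.respectTransparency.types false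
set_option linter.style.haveILetI false
set_option maxHeartbeats 1000000
set_option synthInstance.maxHeartbeats 400000

universe u

open CategoryTheory CategoryTheory.Limits MonoidalCategory CartesianMonoidalCategory MonObj AlgebraicGeometry TopologicalSpace

attribute [-instance] CategoryTheory.catToReflQuiver

namespace Groth.Agent.AVPoinc

open Groth.Agent.H23 Groth.Agent.H23.TrivBasic Groth.Agent.H23.CubeAb
open scoped Groth.Agent.H23.PicMul CategoryTheory.Obj

section closed

variable {K : Type u} [Field K] [IsAlgClosed K] {X Y : Over (Spec (CommRingCat.of K))}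
  [IsProper X.hom] [LocallyOfFiniteType Y.hom] [IsSeparated Y.hom]

/-- a proper morphism with finitely many rational points in each fibre is finite -/
theorem isFinite_of_finite_points (f : X ⟶ Y)
    (h : ∀ x : 𝟙_ (Over (Spec (CommRingCat.of K))) ⟶ X,
      Set.Finite {y : 𝟙_ (Over (Spec (CommRingCat.of K))) ⟶ X | y ≫ f = x ≫ f}) : IsFinite f.left := by
  haveI : IsProper (f.left ≫ Y.hom) := by rw [Over.w]; infer_instance
  haveI : IsProper f.left := IsProper.of_comp f.left Y.hom
  haveI : JacobsonSpace X.left := LocallyOfFiniteType.jacobsonSpace X.hom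
  let pt : (z : X.left) → IsClosed ({z} : Set X.left) → (𝟙_ (Over (Spec (CommRingCat.of K))) ⟶ X) := fun z hz =>
    Over.homMk (pointOfClosedPoint X.hom z hz) (pointOfClosedPoint_comp X.hom z hz)
  have hpt : ∀ z hz, (pt z hz).left (IsLocalRing.closedPoint K) = z := fun z hz =>
    pointOfClosedPoint_apply X.hom z hz _
  haveI : LocallyQuasiFinite f.left := by
    rw [← Scheme.Hom.quasiFiniteLocus_eq_top_iff, eq_top_iff]
    intro x _
    by_contra hx
    obtain ⟨g, hg1, hg⟩ := nonempty_inter_closedPoints (Z := (f.left.quasiFiniteLocus : Set X.left)ᶜ) ⟨x, hx⟩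
      f.left.quasiFiniteLocus.isOpen.isClosed_compl.isLocallyClosed
    refine hg1 ?_
    rw [SetLike.mem_coe, Scheme.Hom.mem_quasiFiniteLocus, Scheme.Hom.quasiFiniteAt_iff_isOpen_singleton_asFiber]
    let Z : Set X.left := f.left ⁻¹' {f.left g}
    have hyc : IsClosed ({f.left g} : Set Y.left) := by
      rw [← Set.image_singleton]
      exact f.left.isClosedMap _ hg
    have hZ : IsClosed Z := hyc.preimage f.left.continuous
    let P : Set X.left := (fun y : 𝟙_ (Over (Spec (CommRingCat.of K))) ⟶ X => y.left (IsLocalRing.closedPoint K)) ''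
      {y | y ≫ f = pt g hg ≫ f}
    have hPc : ∀ z ∈ P, IsClosed ({z} : Set X.left) := by
      rintro _ ⟨y, -, rfl⟩
      exact ((pointEquivClosedPoint X.hom) ⟨y.left, Over.w y⟩).2
    have hsub : Z ⊆ P := by
      intro z hz
      by_contra hzP
      have hPC : IsClosed P := by
        rw [← Set.biUnion_of_singleton P]
        exact ((h _).image _).isClosed_biUnion hPc
      obtain ⟨w, ⟨hw1, hw2⟩, hw⟩ := nonempty_inter_closedPoints (Z := Z ∩ Pᶜ) ⟨z, hz, hzP⟩
        (hZ.isLocallyClosed.inter hPC.isOpen_compl.isLocallyClosed)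
      refine hw2 ⟨pt w hw, ?_, hpt w hw⟩
      refine AVEuler.point_injective ?_
      show f.left ((pt w hw).left (IsLocalRing.closedPoint K)) = f.left ((pt g hg).left (IsLocalRing.closedPoint K))
      rw [hpt, hpt]
      exact hw1
    haveI : Finite ↥Z := (((h _).image _).subset hsub).to_subtype
    haveI : Finite (f.left.fiber (f.left g)) := Finite.of_equiv _ (f.left.fiberHomeo (f.left g)).symm.toEquiv
    haveI : DiscreteTopology (f.left.fiber (f.left g)) := by
      haveI : T1Space (f.left.fiber (f.left g)) := by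
        haveI : T1Space ↥Z := ⟨fun z => by
          rw [show ({z} : Set ↥Z) = Subtype.val ⁻¹' {z.1} by ext; simp [Subtype.ext_iff]]
          exact (hPc _ (hsub z.2)).preimage continuous_subtype_val⟩
        exact (f.left.fiberHomeo (f.left g)).symm.t1Space
      infer_instance
    exact isOpen_discrete _
  exact (IsFinite.iff_isProper_and_locallyQuasiFinite _).2 ⟨inferInstance, inferInstance⟩

/-- finite morphisms do not increase the dimension -/
theorem dim_le_of_isFinite {X Y : Scheme.{u}} (f : X ⟶ Y) [IsFinite f] :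
    topologicalKrullDim X ≤ topologicalKrullDim Y :=
  DimLift.le_of_incomparable f f.continuous fun x x' h he => by
    have hd := f.isDiscrete_preimage_singleton (f x)
    haveI : DiscreteTopology ↥(f ⁻¹' {f x}) := (isDiscrete_iff_discreteTopology).1 hd
    have h' : (⟨x, rfl⟩ : ↥(f ⁻¹' {f x})) ⤳ ⟨x', he.symm⟩ := (subtype_specializes_iff _ _).2 h
    exact congrArg Subtype.val h'.eq

end closed

section mumford

variable {S : Scheme.{u}} {A At : Over S} [GrpObj A] [GrpObj At] [IsProper A.hom] [Smooth A.hom]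
  [GeometricallyConnected A.hom] [IsProper At.hom]
  {φ : ∀ T : Over S, PicF.Cl (PicF.XT A.hom T) → (T ⟶ At)}
  (hφ : AbDual.IsDualAV Scheme.fppfPrecoverage A At φ)
  {Ω : Type u} [Field Ω] [IsAlgClosed Ω] (σ : Spec (CommRingCat.of Ω) ⟶ S)

/-- the diagonal point of the base change of a geometric point -/
def diag : 𝟙_ (Over (Spec (CommRingCat.of Ω))) ⟶ (Over.pullback σ).obj (Over.mk σ) :=
  Over.homMk (pullback.lift (𝟙 _) (𝟙 _) rfl) (pullback.lift_snd _ _ _)

omit [IsAlgClosed Ω] [GrpObj A] [IsProper A.hom] [Smooth A.hom] [GeometricallyConnected A.hom] in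
theorem diag_map (p : 𝟙_ (Over (Spec (CommRingCat.of Ω))) ⟶ (Over.pullback σ).obj A) :
    diag σ ≫ (Over.pullback σ).map (Over.homMk (p.left ≫ pullback.fst A.hom σ) (by
      show (p.left ≫ pullback.fst A.hom σ) ≫ A.hom = σ
      rw [Category.assoc, pullback.condition, ← Category.assoc]
      exact (congrArg (· ≫ σ) (Over.w p)).trans (Category.id_comp σ)) : Over.mk σ ⟶ A) = p := by
  refine Over.OverMorphism.ext (pullback.hom_ext ?_ ?_)
  · simp [diag, Over.pullback]
    exact Category.id_comp _
  · simpa [diag, Over.pullback] using (Over.w p).symm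

omit [IsAlgClosed Ω] [IsProper A.hom] [Smooth A.hom] [GeometricallyConnected A.hom] in
/-- translation of the geometric fibre by a point, after projection -/
theorem tr_left_fst (x : Over.mk σ ⟶ A) :
    (tr (diag σ ≫ (Over.pullback σ).map x)).left ≫ pullback.fst A.hom σ =
      (fst A (Over.mk σ) * snd A (Over.mk σ) ≫ x).left := by
  let G := Over.pullback σ
  let j : G.obj A ⟶ G.obj (A ⊗ Over.mk σ) := Over.homMk
    (pullback.lift (𝟙 (pullback A.hom σ)) (pullback.snd A.hom σ) (by
      show 𝟙 (pullback A.hom σ) ≫ pullback.fst A.hom σ ≫ A.hom = _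
      rw [Category.id_comp]
      exact pullback.condition)) (pullback.lift_snd _ _ _)
  have h1 : j ≫ G.map (fst A (Over.mk σ)) = 𝟙 _ :=
    Over.OverMorphism.ext (pullback.hom_ext (by simp [j, G, Over.pullback]; rfl) (by simp [j, G, Over.pullback]))
  have h2 : j ≫ G.map (snd A (Over.mk σ)) = toUnit _ ≫ diag σ :=
    Over.OverMorphism.ext (pullback.hom_ext (by simp [j, G, diag, Over.pullback]; rfl)
      (by simp [j, G, diag, Over.pullback]))
  have h : tr (diag σ ≫ G.map x) = j ≫ G.map (fst A (Over.mk σ) * snd A (Over.mk σ) ≫ x) := by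
    rw [Functor.map_mul, Functor.map_comp, MonObj.comp_mul, h1, ← Category.assoc, h2, Category.assoc]
  rw [h, Over.comp_left, Category.assoc]
  show j.left ≫ pullback.lift _ _ _ ≫ pullback.fst _ _ = _
  rw [pullback.lift_fst]
  refine (Category.assoc _ _ _).symm.trans ?_
  refine (congrArg (· ≫ _) (pullback.lift_fst _ _ _)).trans ?_
  exact Category.id_comp _

variable {cW cW' : PicF.Cl A.left} (hW : PicF.IsInvertibleCl cW) (hW' : PicF.IsInvertibleCl cW') (hWW' : cW * cW' = 1)
  {cΛ : PicF.Cl (PicF.XT A.hom A)}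
  (hΛ : cΛ = PicF.pullCl μ[A].left cW * PicF.pullCl (fst A A).left cW' * PicF.pullCl (snd A A).left cW')
  (hΛ0 : AbDual.IsPicZeroCl A.hom A cΛ)
include hφ hW' hWW' hΛ hΛ0

omit [IsProper At.hom] [IsProper A.hom] [Smooth A.hom] [GeometricallyConnected A.hom] in
/-- points with the same image give the same translate -/
theorem translate_eq_of_phi (x y : Over.mk σ ⟶ A) (h : x ≫ φ A cΛ = y ≫ φ A cΛ) :
    PicF.pullCl (fst A (Over.mk σ) * snd A (Over.mk σ) ≫ x).left cW =
      PicF.pullCl (fst A (Over.mk σ) * snd A (Over.mk σ) ≫ y).left cW := by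
  let T := Over.mk σ
  have hc : ∀ z : T ⟶ A, PicF.pullCl (PicF.XTmap A.hom z) cΛ =
      PicF.pullCl (fst A T * snd A T ≫ z).left cW * PicF.pullCl (fst A T).left cW' := by
    intro z
    show PicMul.pullHom (A ◁ z).left cΛ = _
    rw [hΛ]
    show PicMul.pullHom (A ◁ z).left (PicMul.pullHom μ[A].left cW * PicMul.pullHom (fst A A).left cW' *
      PicMul.pullHom (snd A A).left cW') = _
    rw [map_mul, map_mul]
    show PicF.pullCl (A ◁ z).left (PicF.pullCl μ[A].left cW) * PicF.pullCl (A ◁ z).left (PicF.pullCl (fst A A).left cW') *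
      PicF.pullCl (A ◁ z).left (PicF.pullCl (snd A A).left cW') = _
    rw [PicClLib.pullCl_comp, PicClLib.pullCl_comp, PicClLib.pullCl_comp, ← Over.comp_left, ← Over.comp_left,
      ← Over.comp_left, whiskerLeft_fst, whiskerLeft_snd,
      show (A ◁ z) ≫ μ[A] = fst A T * snd A T ≫ z by
        rw [Hom.mul_def]; exact congrArg (· ≫ μ[A]) (CartesianMonoidalCategory.hom_ext _ _ (by simp) (by simp)),
      Over.comp_left, ← PicClLib.pullCl_comp (snd A T).left z.left,
      AbDualBase.pullCl_point z.left hW', AbDualBase.pullCl_one',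
      _root_.mul_one]
  have h1 := AbDualBase.eq_of_phi_point hφ σ (AbDualBase.pz_xtMap x hΛ0) (AbDualBase.pz_xtMap y hΛ0)
    (by rw [hφ.relPic.natural _ _ x _ hΛ0, hφ.relPic.natural _ _ y _ hΛ0, h])
  rw [hc, hc] at h1
  have h2 : PicF.pullCl (fst A T).left cW' * PicF.pullCl (fst A T).left cW = 1 := by
    show PicMul.pullHom (fst A T).left cW' * PicMul.pullHom (fst A T).left cW = 1
    rw [← map_mul, mul_comm, hWW', map_one]
  have h3 := congrArg (· * PicF.pullCl (fst A T).left cW) h1
  simp only [_root_.mul_assoc, h2, _root_.mul_one] at h3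
  exact h3

include hW in
/-- the map attached to an ample module is finite on a geometric fibre -/
theorem isFinite_phi_fibre
    (hamp : ∀ W : ((Over.pullback σ).obj A).left.Modules,
      PicF.cl W = PicF.pullCl (pullback.fst A.hom σ) cW → CohB1.IsAmple W) :
    IsFinite ((Over.pullback σ).map (φ A cΛ)).left := by
  let G := Over.pullback σ
  let AK := G.obj A
  haveI : GeometricallyIntegral AK.hom := AbDualBase.geometricallyIntegral_fibre σ A
  haveI : IsProper AK.hom := inferInstanceAs (IsProper (pullback.snd A.hom σ))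
  haveI : IsProper (G.obj At).hom := inferInstanceAs (IsProper (pullback.snd At.hom σ))
  letI : GrpObj AK := Functor.grpObjObj
  obtain ⟨W, hWe, hWi⟩ := PicClLib.isInvertibleCl_pullCl (pullback.fst A.hom σ) hW
  have hfix := S12002.result Ω AK W (hamp W hWe)
  refine isFinite_of_finite_points _ fun p => ?_
  refine (hfix.image (fun a => p * a)).subset fun q hq => ?_
  refine ⟨p⁻¹ * q, ?_, _root_.mul_inv_cancel_left p q⟩
  let up : (𝟙_ (Over (Spec (CommRingCat.of Ω))) ⟶ AK) → (Over.mk σ ⟶ A) := fun r =>
    Over.homMk (r.left ≫ pullback.fst A.hom σ) (by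
      show (r.left ≫ pullback.fst A.hom σ) ≫ A.hom = σ
      rw [Category.assoc, pullback.condition, ← Category.assoc]
      exact (congrArg (· ≫ σ) (Over.w r)).trans (Category.id_comp σ))
  have hup : ∀ r, diag σ ≫ G.map (up r) = r := fun r => diag_map σ r
  have h1 : up q ≫ φ A cΛ = up p ≫ φ A cΛ := by
    refine Over.OverMorphism.ext ?_
    have h := congrArg (fun m => m.left ≫ pullback.fst At.hom σ) (hq : q ≫ G.map _ = p ≫ G.map _)
    simp [Over.pullback] at h
    simpa [up] using h
  have h2 : ∀ r, F (PicF.cl W) (tr r) = PicF.pullCl (fst A (Over.mk σ) * snd A (Over.mk σ) ≫ up r).left cW := fun r => by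
    show PicF.pullCl (tr r).left (PicF.cl W) = _
    rw [hWe, PicClLib.pullCl_comp]
    conv_lhs => rw [← hup r]
    rw [tr_left_fst]
  have h3 : F (PicF.cl W) (tr q) = F (PicF.cl W) (tr p) := by
    rw [h2, h2, translate_eq_of_phi hφ σ hW' hWW' hΛ hΛ0 _ _ h1]
  have h4 := congrArg (PicMul.pullHom (tr p⁻¹).left) h3
  rw [pull_F, pull_F, AVVanish.tr_comp, AVVanish.tr_comp, inv_mul_cancel, AVVanish.F_tr_one] at h4
  exact PicMul.cl_eq_iff.1 h4

end mumford

end Groth.Agent.AVPoinc

end
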