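import Groth.Agent.AVPoinc.Main
import Groth.Agent.AVPoinc.PhiFinite
import Groth.Agent.Lib.AVProj
import Groth.Agent.Lib.AVPicZero
import Groth.Agent.FibDim.BaseField

/-!
# The dimension of the dual
-/

noncomputable section

set_option autoImplicit false
set_option backward.isDefEq.respectTransparency false
set_option backward.isDefEq.respectTransparency.types false
set_option linter.style.haveILetI false
set_option maxHeartbeats 1000000
set_option synthInstance.maxHeartbeats 400000

universe u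

open CategoryTheory CategoryTheory.Limits MonoidalCategory CartesianMonoidalCategory MonObj AlgebraicGeometry TopologicalSpace

attribute [-instance] CategoryTheory.catToReflQuiver

namespace Groth.Agent.AVPoinc

open Groth.Agent.H23 Groth.Agent.H23.TrivBasic Groth.Agent.H23.CubeAb
open scoped Groth.Agent.H23.PicMul CategoryTheory.Obj

variable {k : Type u} [Field k] {A At : Over (Spec (CommRingCat.of k))}
  [GrpObj A] [IsProper A.hom] [Smooth A.hom] [GeometricallyConnected A.hom]
  [GrpObj At] [IsProper At.hom] [Smooth At.hom] [GeometricallyConnected At.hom]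
  {φ : ∀ T : Over (Spec (CommRingCat.of k)), PicF.Cl (PicF.XT A.hom T) → (T ⟶ At)}
  (hφ : AbDual.IsDualAV Scheme.fppfPrecoverage A At φ)
include hφ

omit hφ [GrpObj At] [IsProper At.hom] [Smooth At.hom] [GeometricallyConnected At.hom] in
/-- the class of an ample module gives a family in the connected component -/
theorem exists_ample_family : ∃ (W : A.left.Modules) (cW' : PicF.Cl A.left) (cΛ : PicF.Cl (PicF.XT A.hom A)),
    CohB1.IsAmple W ∧ PicF.IsInvertibleCl cW' ∧ PicF.cl W * cW' = 1 ∧
      cΛ = PicF.pullCl μ[A].left (PicF.cl W) * PicF.pullCl (fst A A).left cW' * PicF.pullCl (snd A A).left cW' ∧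
      AbDual.IsPicZeroCl A.hom A cΛ := by
  haveI : GeometricallyIntegral A.hom := AVDual.geometricallyIntegral_of_smooth A
  obtain ⟨W, hW⟩ := AVProj.exists_isAmple (X := A)
  obtain ⟨W', hW', hWW'⟩ := PicInv.exists_inverse hW.1
  have h1 : PicF.cl W * PicF.cl W' = 1 := PicMul.cl_eq_iff.2 hWW'
  have hi : PicF.IsInvertibleCl (PicF.cl W) := ⟨W, rfl, hW.1⟩
  have hi' : PicF.IsInvertibleCl (PicF.cl W') := ⟨W', rfl, hW'⟩
  refine ⟨W, PicF.cl W', _, hW, hi', h1, rfl, AVDual.pz_of_slice η[A] (PicMul.isInvertibleCl_mul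
    (PicMul.isInvertibleCl_mul (PicClLib.isInvertibleCl_pullCl _ hi) (PicClLib.isInvertibleCl_pullCl _ hi'))
    (PicClLib.isInvertibleCl_pullCl _ hi')) ?_⟩
  show PicMul.pullHom _ (F (PicF.cl W) μ[A] * F (PicF.cl W') (fst A A) * F (PicF.cl W') (snd A A)) = 1
  rw [map_mul, map_mul, pull_F, pull_F, pull_F, lift_fst, lift_snd,
    show lift (𝟙 A) (toUnit A ≫ η[A]) ≫ μ[A] = 𝟙 A by
      rw [show lift (𝟙 A) (toUnit A ≫ η[A]) ≫ μ[A] = 𝟙 A * (toUnit A ≫ η[A]) from (Hom.mul_def _ _).symm,
        show toUnit A ≫ η[A] = (1 : A ⟶ A) from (Hom.one_def).symm, _root_.mul_one],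
    show F (PicF.cl W') (toUnit A ≫ η[A]) = 1 from AVPair.pl_const hi' η[A], _root_.mul_one]
  show PicF.pullCl (𝟙 A : A ⟶ A).left (PicF.cl W) * PicF.pullCl (𝟙 A : A ⟶ A).left (PicF.cl W') = 1
  rw [Over.id_left, PicClLib.pullCl_id, PicClLib.pullCl_id]
  exact h1

/-- the dual has at least the dimension of the variety -/
theorem le_dim : topologicalKrullDim A.left ≤ topologicalKrullDim At.left := by
  obtain ⟨W, cW', cΛ, hW, hW', hWW', hΛ, hΛ0⟩ := exists_ample_family (A := A)
  let K := AlgebraicClosure k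
  let σ : Spec (CommRingCat.of K) ⟶ Spec (CommRingCat.of k) := Spec.map (CommRingCat.ofHom (algebraMap k (AlgebraicClosure k)))
  haveI := isFinite_phi_fibre hφ σ ⟨W, rfl, hW.1⟩ hW' hWW' hΛ hΛ0 fun W₀ h₀ => by
    refine AmpleX.isAmple_of_iso (PicMul.cl_eq_iff.1 h₀).some.symm ?_
    exact (AmpleX.isRelAmple_iff_isAmple (pullback.snd A.hom σ) _).1
      (AmpleX.isRelAmple_baseChange A.hom σ ((AmpleX.isRelAmple_iff_isAmple A.hom W).2 hW))
  haveI : Subsingleton ↥(Spec (CommRingCat.of K)) := inferInstanceAs (Subsingleton (PrimeSpectrum K))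
  haveI : Subsingleton ↥(Spec (CommRingCat.of k)) := inferInstanceAs (Subsingleton (PrimeSpectrum k))
  rw [← FibDim.topologicalKrullDim_baseChange (IsPullback.of_hasPullback A.hom σ),
    ← FibDim.topologicalKrullDim_baseChange (IsPullback.of_hasPullback At.hom σ)]
  exact dim_le_of_isFinite ((Over.pullback σ).map (φ A cΛ)).left

/-- the dual has the dimension of the variety -/
theorem dim_eq {P : (pullback A.hom At.hom).Modules} (hP : PicF.IsInvertible P)
    (hξ : AbDual.IsPoincareCl A At φ (PicF.cl P)) [HasInjectiveResolutions (pullback A.hom At.hom).Modules]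
    {g : ℕ} (hg : topologicalKrullDim A.left = g) : topologicalKrullDim At.left = g := by
  have h1 := le_dim hφ
  rw [hg] at h1
  haveI : IsLocallyNoetherian At.left := LocallyOfFiniteType.isLocallyNoetherian At.hom
  haveI : IsRegularLocalRing (At.left.presheaf.stalk unitPt) := GrpSchLib.isRegularLocalRing_stalk_of_smooth At.hom _
  obtain ⟨g', hg'⟩ : ∃ g' : ℕ, topologicalKrullDim At.left = g' :=
    ⟨_, (GrpSchLib.ringKrullDim_stalk_eq (isClosed_unitPt (At := At))).symm.trans
      ((isRegularLocalRing_iff _).1 ‹_›).symm⟩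
  rw [hg'] at h1 ⊢
  exact_mod_cast le_antisymm (by exact_mod_cast dim_le hφ hP hξ hg hg') h1

end Groth.Agent.AVPoinc

end
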