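import Groth.Agent.AVVanish.Skyscraper
import Groth.Agent.QCoh.RpushModel
import Groth.Agent.CohBC.Rpush
import Groth.Agent.FComplLib.KrullSupp
import Groth.Agent.QCoh.OpenSub
import Groth.Agent.QCoh.GodLoc
import Groth.Agent.PPSheaf.FlatPr
import Groth.Agent.KFlatLib.Scheme.RpushQCoh

/-!
# Cohomology through an open containing the support of the higher direct images

If the higher direct images vanish outside `V`, a cohomology class vanishing over `V` vanishes.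
-/

noncomputable section

set_option autoImplicit false
set_option backward.isDefEq.respectTransparency false
set_option backward.isDefEq.respectTransparency.types false
set_option linter.style.haveILetI false
set_option maxHeartbeats 1000000

universe u

open CategoryTheory CategoryTheory.Limits AlgebraicGeometry TopologicalSpace Opposite

namespace Groth.Agent.AVPoinc

open Groth.Agent.QCoh

variable {X S : Scheme.{u}} (f : X ⟶ S) [QuasiCompact f] [QuasiSeparated f] [HasInjectiveResolutions X.Modules]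
  {M : X.Modules}

theorem subsingleton_stalk_of_locally {N : S.Modules} {y : S}
    (h : ∃ U : S.Opens, y ∈ U ∧ IsZero (N.restrict U.ι)) : Subsingleton (N.presheaf.stalk y) := by
  obtain ⟨U, hyU, hU⟩ := h
  refine subsingleton_of_forall_eq 0 fun z => ?_
  obtain ⟨W, hyW, s, rfl⟩ := TopCat.Presheaf.exists_germ_eq N.presheaf z
  have hVeq : U.ι ''ᵁ (U.ι ⁻¹ᵁ (W ⊓ U)) = W ⊓ U := by
    rw [Scheme.Hom.image_preimage_eq_opensRange_inf, Scheme.Opens.opensRange_ι]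
    exact inf_eq_right.2 inf_le_right
  haveI : Subsingleton Γ(N, W ⊓ U) := by
    rw [← hVeq]
    exact QCoh.subsingleton_Γ_of_isZero hU (U.ι ⁻¹ᵁ (W ⊓ U))
  rw [← TopCat.Presheaf.germ_res_apply _ (homOfLE (inf_le_left : W ⊓ U ≤ W)) y ⟨hyW, hyU⟩ s,
    Subsingleton.elim (N.presheaf.map (homOfLE (inf_le_left : W ⊓ U ≤ W)).op s) 0, map_zero]

/-- no cohomology over opens avoiding the support of the direct images -/
theorem subsingleton_HH_preimage (hM : Coh.IsQCoh M) (W : S.Opens)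
    (hW : ∀ q, ∀ y ∈ W, ∃ U : S.Opens, y ∈ U ∧ IsZero (((Coh.Rpush f q).obj M).restrict U.ι)) (n : ℕ) :
    Subsingleton (Coh.HH (f ⁻¹ᵁ W : Scheme.{u}) (M.restrict (f ⁻¹ᵁ W).ι) n) := by
  let j := (f ⁻¹ᵁ W).ι
  let f' := f ∣_ W
  have sq : IsPullback j f' f W.ι := (isPullback_morphismRestrict f W).flip
  haveI := PPSheaf.preservesFiniteLimits_pullback j
  haveI : HasInjectiveResolutions (f ⁻¹ᵁ W : Scheme.{u}).Modules := KFlatLib.hasInjectiveResolutions_modules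
  have hz : ∀ q, IsZero ((Coh.Rpush f' q).obj ((Scheme.Modules.pullback j).obj M)) := fun q => by
    haveI := CohBC.isIso_bcQ f W.ι j f' sq M hM q
    refine IsZero.of_iso ?_ (asIso (CohBC.bcQ f W.ι f' j sq.w q M)).symm
    exact (FComplLib.isZero_restrict_of_subsingleton_stalk ((Coh.Rpush f q).obj M) W fun y hy =>
      subsingleton_stalk_of_locally (hW q y hy)).of_iso ((Scheme.Modules.restrictFunctorIsoPullback W.ι).app _).symm
  exact Groth.Agent.QCoh.subsingleton_HH_of_iso ((Scheme.Modules.restrictFunctorIsoPullback j).app M).symm n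
    (AVVanish.subsingleton_HH_of_all_isZero f' _ hz n)

/-- every section of the Godement cokernels is a coboundary there -/
theorem mem_bd_preimage (hM : Coh.IsQCoh M) (W : S.Opens)
    (hW : ∀ q, ∀ y ∈ W, ∃ U : S.Opens, y ∈ U ∧ IsZero (((Coh.Rpush f q).obj M).restrict U.ι)) (n : ℕ)
    (z : Γ(godQ M n, f ⁻¹ᵁ W)) : z ∈ bd M n (f ⁻¹ᵁ W) := by
  letI := modHH (rhoV f W) (M.restrict (f ⁻¹ᵁ W).ι) n
  haveI := subsingleton_HH_preimage f hM W hW n
  obtain ⟨θ, -, hθ⟩ := exists_theta f M W n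
  exact (hθ z).1 (Subsingleton.elim _ _)

/-- a class vanishing over an open containing the support vanishes -/
theorem mem_bd_top (hM : Coh.IsQCoh M) {V W : S.Opens} (hcov : V ⊔ W = ⊤)
    (hW : ∀ q, ∀ y ∈ W, ∃ U : S.Opens, y ∈ U ∧ IsZero (((Coh.Rpush f q).obj M).restrict U.ι)) (n : ℕ)
    (z : Γ(godQ M (n + 1), ⊤)) (hz : rs (godQ M (n + 1)) (le_top : f ⁻¹ᵁ V ≤ ⊤) z ∈ bd M (n + 1) (f ⁻¹ᵁ V)) :
    z ∈ bd M (n + 1) ⊤ := by
  let U₁ := f ⁻¹ᵁ V
  let U₂ := f ⁻¹ᵁ W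
  have hT : (⊤ : X.Opens) = U₁ ⊔ U₂ := by
    show f ⁻¹ᵁ (⊤ : S.Opens) = _
    rw [← hcov]
    rfl
  obtain ⟨a, ha⟩ := hz
  obtain ⟨b, hb⟩ := mem_bd_preimage f hM W hW (n + 1) (rs (godQ M (n + 1)) (le_top : U₂ ≤ ⊤) z)
  replace ha : (godπ M n).app U₁ a = rs _ le_top z := ha
  replace hb : (godπ M n).app U₂ b = rs _ le_top z := hb
  obtain ⟨c, hc⟩ := exists_of_godπ_app_eq_zero n
    (rs (God (godQ M n)) (inf_le_left : U₁ ⊓ U₂ ≤ U₁) a - rs (God (godQ M n)) (inf_le_right : U₁ ⊓ U₂ ≤ U₂) b) (by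
      rw [map_sub, app_rs, app_rs, ha, hb, rs_rs, rs_rs, sub_self])
  have hcb : c ∈ bd M n (U₁ ⊓ U₂) :=
    mem_bd_preimage f hM (V ⊓ W) (fun q y hy => hW q y hy.2) n c
  obtain ⟨e', he'b, he'⟩ := exists_lift_bd M n (inf_le_right : U₁ ⊓ U₂ ≤ U₂) hcb
  obtain ⟨A, hA₁, hA₂⟩ := exists_glue_sup hT le_top le_top a (b + (toGod (godQ M n)).app U₂ e') (by
    rw [rs_add, ← app_rs, he', hc]
    abel)
  refine ⟨A, eq_of_sup hT le_top le_top _ _ ?_ ?_⟩
  · refine (app_rs (godπ M n) le_top A).symm.trans ?_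
    rw [hA₁, ha]
  · refine (app_rs (godπ M n) le_top A).symm.trans ?_
    rw [hA₂, map_add, godπ_toGod_app, add_zero, hb]

/-- a class vanishing over an open containing the support vanishes, in every degree -/
theorem mem_bd_top' (hM : Coh.IsQCoh M) {V W : S.Opens} (hcov : V ⊔ W = ⊤)
    (hW : ∀ q, ∀ y ∈ W, ∃ U : S.Opens, y ∈ U ∧ IsZero (((Coh.Rpush f q).obj M).restrict U.ι)) :
    ∀ (n : ℕ) (z : Γ(godQ M n, ⊤)), rs (godQ M n) (le_top : f ⁻¹ᵁ V ≤ ⊤) z ∈ bd M n (f ⁻¹ᵁ V) → z ∈ bd M n ⊤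
  | 0, z, hz => by
    have hT : (⊤ : X.Opens) = f ⁻¹ᵁ V ⊔ f ⁻¹ᵁ W := by
      show f ⁻¹ᵁ (⊤ : S.Opens) = _
      rw [← hcov]
      rfl
    refine (Submodule.mem_bot _).2 (eq_of_sup hT le_top le_top z 0 ?_ ?_)
    · exact ((Submodule.mem_bot _).1 hz).trans (rs_zero _).symm
    · exact ((Submodule.mem_bot _).1 (mem_bd_preimage f hM W hW 0 _)).trans (rs_zero _).symm
  | n + 1, z, hz => mem_bd_top f hM hcov hW n z hz

/-- the restriction of a class, semilinearly -/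
theorem exists_restrict (hM : Coh.IsQCoh M) {V W : S.Opens} (hcov : V ⊔ W = ⊤)
    (hW : ∀ q, ∀ y ∈ W, ∃ U : S.Opens, y ∈ U ∧ IsZero (((Coh.Rpush f q).obj M).restrict U.ι))
    {A : Type u} [CommRing A] (ρ : A →+* Coh.Γtop X) (σ : A →+* Γ(S, V))
    (hσ : ∀ a, rf X (le_top : f ⁻¹ᵁ V ≤ ⊤) (ρ a) = f.app V (σ a)) (n : ℕ) :
    letI := modHH ρ M n
    letI := modHH (rhoV f V) (M.restrict (f ⁻¹ᵁ V).ι) n
    ∃ Φ : Coh.HH X M n →+ Coh.HH (f ⁻¹ᵁ V : Scheme.{u}) (M.restrict (f ⁻¹ᵁ V).ι) n,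
      Function.Injective Φ ∧ ∀ a x, Φ (a • x) = σ a • Φ x := by
  letI := modHH ρ M n
  letI := modHH (rhoV f V) (M.restrict (f ⁻¹ᵁ V).ι) n
  letI := secModule ρ (godQ M n) ⊤
  obtain ⟨c, hc, hker⟩ := exists_classMap ρ M n
  obtain ⟨θ, -, hθ⟩ := exists_theta f M V n
  let r : Γ(godQ M n, ⊤) →+ Coh.HH (f ⁻¹ᵁ V : Scheme.{u}) (M.restrict (f ⁻¹ᵁ V).ι) n :=
    AddMonoidHom.mk' (fun z => θ (rs (godQ M n) (le_top : f ⁻¹ᵁ V ≤ ⊤) z)) fun z w => by
      rw [rs_add]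
      exact map_add θ _ _
  have hr : ∀ z, r z = 0 ↔ c z = 0 := fun z => by
    refine Iff.trans (hθ _) (Iff.trans ⟨mem_bd_top' f hM hcov hW n z, rs_mem_bd M n le_top⟩ (hker z).symm)
  choose g hg using hc
  have hwd : ∀ z, r (g (c z)) = r z := fun z => by
    rw [← sub_eq_zero, ← map_sub, hr, map_sub, hg, sub_self]
  refine ⟨AddMonoidHom.mk' (fun x => r (g x)) fun x y => ?_, fun x y hxy => ?_, fun a x => ?_⟩
  · rw [← map_add, ← hwd (g x + g y), map_add, hg, hg]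
  · have h := (hr (g x - g y)).1 (by rw [map_sub, sub_eq_zero]; exact hxy)
    rwa [map_sub, hg, hg, sub_eq_zero] at h
  · show r (g (a • x)) = σ a • r (g x)
    rw [← hg x, ← map_smul, hwd, hwd]
    show θ _ = σ a • θ _
    rw [← map_smul]
    refine congrArg θ ?_
    refine (rs_smul (G := godQ M n) _ (rf X (le_top : (⊤ : X.Opens) ≤ ⊤) (ρ a)) (g x)).trans ?_
    refine congrArg (· • _) ?_
    refine Eq.trans ?_ (hσ a)
    exact rf_rf _ _ _

end Groth.Agent.AVPoinc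

end
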