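import Groth.Agent.AVPoinc.Stalk
import Groth.Agent.QCoh.ClosedPush
import Groth.Agent.CurveCohLib.Skyscraper
import Groth.Agent.InvX.Tensor

/-!
# Coherent modules supported at the unit with one-dimensional stalk
-/

noncomputable section

set_option autoImplicit false
set_option backward.isDefEq.respectTransparency false
set_option backward.isDefEq.respectTransparency.types false
set_option linter.style.haveILetI false
set_option maxHeartbeats 1000000

universe u

open CategoryTheory CategoryTheory.Limits MonoidalCategory CartesianMonoidalCategory MonObj AlgebraicGeometry TopologicalSpace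

attribute [-instance] CategoryTheory.catToReflQuiver

namespace Groth.Agent.AVPoinc

open Groth.Agent.InvX

variable {k : Type u} [Field k] {At : Over (Spec (CommRingCat.of k))} [GrpObj At] [IsProper At.hom]

/-- such a module is the pushforward of the functions of the point -/
theorem nonempty_iso_push {F : At.left.Modules} (hF : Coh.IsCoh F)
    (hoff : ∀ y, y ≠ unitPt (At := At) → Subsingleton (F.presheaf.stalk y))
    (z : F.presheaf.stalk (unitPt (At := At))) (hz : z ≠ 0)
    (hgen : ∀ v, ∃ a : k, v = @Curv2.stalkMap k _ At.left ⟨At.hom⟩ unitPt a • z)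
    (hkill : ∀ c ∈ IsLocalRing.maximalIdeal (At.left.presheaf.stalk (unitPt (At := At))),
      ∀ v : F.presheaf.stalk (unitPt (At := At)), c • v = 0) :
    Nonempty (F ≅ (Coh.push η[At].left).obj (Coh.structureModule (Spec (CommRingCat.of k)))) := by
  classical
  letI : At.left.Over (Spec (CommRingCat.of k)) := ⟨At.hom⟩
  haveI : IsProper (At.left ↘ Spec (CommRingCat.of k)) := ‹IsProper At.hom›
  haveI : IsNoetherian At.left := CurveCohLib.isNoetherian_of_proper (k := k)
  haveI : IsClosedImmersion η[At].left := isClosedImmersion_unit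
  let e : Spec (CommRingCat.of k) ⟶ At.left := η[At].left
  haveI : IsClosedImmersion e := isClosedImmersion_unit
  have hsupp : CohB1.support F ⊆ {unitPt (At := At)} := fun y hy => by
    by_contra h
    exact hy (hoff y h)
  -- the ideal of the unit kills the module
  have hu : IsIso ((Scheme.Modules.pullbackPushforwardAdjunction e).unit.app F) := by
    rw [QCoh.isIso_unit_closed_iff e hF.1]
    intro U a ha s
    refine TopCat.Presheaf.section_ext (⟨F.presheaf, F.isSheaf⟩ : TopCat.Sheaf Ab At.left.toTopCat) U.1 _ _
      fun y hy => ?_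
    by_cases hy' : y = unitPt (At := At)
    · subst hy'
      refine (QCoh.germ_smul' F hy a s).trans ?_
      refine (hkill _ ?_ _).trans (map_zero _).symm
      rw [IsLocalRing.mem_maximalIdeal, mem_nonunits_iff]
      intro hunit
      have h1 := hunit.map (Scheme.stalkClosedPointTo e).hom
      have h2 := ConcreteCategory.congr_hom (Scheme.germ_stalkClosedPointTo e U.1 hy) a
      rw [Scheme.Hom.ker_apply, RingHom.mem_ker] at ha
      refine not_isUnit_zero ((congrArg IsUnit ?_).mp h1)
      refine h2.trans ?_
      rw [CommRingCat.comp_apply]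
      exact (congrArg _ ha).trans (map_zero _)
    · exact @Subsingleton.elim _ (hoff y hy') _ _
  let G := (Scheme.Modules.pullback e).obj F
  let unit := (Scheme.Modules.pullbackPushforwardAdjunction e).unit.app F
  haveI : IsIso unit := hu
  have hbij : Function.Bijective (unit.app ⊤) := ConcreteCategory.bijective_of_isIso (unit.app ⊤)
  -- a global section with germ `z`
  obtain ⟨zF, hzF, -⟩ := CurveCohLib.exists_section_single hF
    (fun x hx => by rw [hsupp hx]; exact isClosed_unitPt) (x := unitPt (At := At))
    (fun h => hz (@Subsingleton.elim _ h _ _)) z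
  let t : Γ(G, ⊤) := unit.app ⊤ zF
  have happ : ∀ r : Γ(At.left, ⊤), (show Γ(G, ⊤) from unit.app ⊤ (r • zF)) = (show Γ(Spec (CommRingCat.of k), ⊤) from e.app ⊤ r) • t := fun r =>
    Scheme.Modules.Hom.app_smul unit r zF
  have hall : ∀ s : Γ(F, ⊤), ∃ r : Γ(At.left, ⊤), s = r • zF := by
    intro s
    obtain ⟨a, ha⟩ := hgen (F.presheaf.germ ⊤ (unitPt (At := At)) trivial s)
    refine ⟨Coh.toGlobal At.hom a, ?_⟩
    refine TopCat.Presheaf.section_ext (⟨F.presheaf, F.isSheaf⟩ : TopCat.Sheaf Ab At.left.toTopCat) ⊤ _ _
      fun y hy => ?_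
    by_cases hy' : y = unitPt (At := At)
    · subst hy'
      refine ha.trans ?_
      refine Eq.trans ?_ (QCoh.germ_smul' F (U := ⊤) hy _ zF).symm
      rw [hzF]
      rfl
    · exact @Subsingleton.elim _ (hoff y hy') _ _
  haveI : Subsingleton ↥(Spec (CommRingCat.of k)) := inferInstanceAs (Subsingleton (PrimeSpectrum k))
  let β : Coh.structureModule (Spec (CommRingCat.of k)) ⟶ G := ofSect t
  have hβ : Function.Bijective (β.app ⊤) := by
    have hb : ∀ r : Γ(Spec (CommRingCat.of k), ⊤), β.app ⊤ r = r • t := fun r => by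
      refine (app_eq_smul β r).trans ?_
      rw [one_ofSect, AModX.res_self]
    refine ⟨(injective_iff_map_eq_zero _).2 fun r hr => ?_, fun s => ?_⟩
    · by_contra hr0
      let d := (Scheme.ΓSpecIso (CommRingCat.of k)).hom r
      have hd : d ≠ 0 := fun h => hr0 ((ConcreteCategory.bijective_of_isIso (Scheme.ΓSpecIso (CommRingCat.of k)).hom).1
        (h.trans (map_zero _).symm))
      have hru : IsUnit (show Γ(Spec (CommRingCat.of k), ⊤) from r) := by
        have h := (Ne.isUnit hd).map (Scheme.ΓSpecIso (CommRingCat.of k)).inv.hom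
        rwa [show (Scheme.ΓSpecIso (CommRingCat.of k)).inv.hom d = r from
          congr($((Scheme.ΓSpecIso (CommRingCat.of k)).hom_inv_id) r)] at h
      have ht : t = 0 := hru.smul_eq_zero.1 ((hb r).symm.trans hr)
      refine hz ?_
      rw [← hzF, hbij.1 (ht.trans (map_zero _).symm), map_zero]
    · obtain ⟨s', hs'⟩ := hbij.2 s
      obtain ⟨r, rfl⟩ := hall s'
      exact ⟨e.app ⊤ r, (hb _).trans ((happ r).symm.trans hs')⟩
  haveI : IsIso β := by
    refine Scheme.Modules.Hom.isIso_iff_isIso_app.2 fun U => (ConcreteCategory.isIso_iff_bijective _).2 ?_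
    rcases Set.eq_empty_or_nonempty (U : Set (Spec (CommRingCat.of k))) with hU | ⟨x, hx⟩
    · obtain rfl : U = ⊥ := Opens.ext hU
      haveI : ∀ M : (Spec (CommRingCat.of k)).Modules, Subsingleton Γ(M, ⊥) := fun M =>
        ⟨fun a b => TopCat.Presheaf.section_ext (⟨M.presheaf, M.isSheaf⟩ : TopCat.Sheaf Ab (Spec (CommRingCat.of k)).toTopCat)
          ⊥ a b fun y hy => hy.elim⟩
      exact ⟨fun a b _ => Subsingleton.elim a b, fun b => ⟨0, Subsingleton.elim _ _⟩⟩
    · obtain rfl : U = ⊤ := top_le_iff.1 fun y _ => Subsingleton.elim x y ▸ hx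
      exact hβ
  exact ⟨asIso unit ≪≫ (Scheme.Modules.pushforward e).mapIso (asIso β).symm⟩

end Groth.Agent.AVPoinc

end
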