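import Groth.Agent.AVPoinc.Stalk
import Groth.Agent.AVPoinc.Leray
import Groth.Agent.AVPoinc.Skyscraper
import Groth.Agent.AVEuler.Index
import Groth.Agent.QCoh.RpushCoh

/-!
# The cohomology of the Poincaré bundle

It is concentrated in the dimension, where it is one-dimensional, and the top direct image along the second
projection is the skyscraper at the unit.
-/

noncomputable section

set_option autoImplicit false
set_option backward.isDefEq.respectTransparency false
set_option backward.isDefEq.respectTransparency.types false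
set_option linter.style.haveILetI false
set_option linter.unusedSectionVars false
set_option maxHeartbeats 1000000

universe u

open CategoryTheory CategoryTheory.Limits MonoidalCategory CartesianMonoidalCategory MonObj AlgebraicGeometry TopologicalSpace

attribute [-instance] CategoryTheory.catToReflQuiver

namespace Groth.Agent.AVPoinc

open Groth.Agent.H23 Groth.Agent.H23.TrivBasic Groth.Agent.AbDualBase Groth.Agent.QCoh
open scoped Groth.Agent.H23.PicMul CategoryTheory.Obj

variable {k : Type u} [Field k] {A At : Over (Spec (CommRingCat.of k))}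

/-- the slice over a rational point of the second factor -/
theorem isPullback_slice (u : 𝟙_ (Over (Spec (CommRingCat.of k))) ⟶ At) :
    IsPullback (lift (𝟙 A) (toUnit A ≫ u)).left A.hom (pullback.snd A.hom At.hom) u.left := by
  have hu : u.left ≫ At.hom = 𝟙 _ := Over.w u
  have h1 : (lift (𝟙 A) (toUnit A ≫ u)).left ≫ (fst A At).left = 𝟙 _ := by
    rw [← Over.comp_left, lift_fst, Over.id_left]
  have h2 : (lift (𝟙 A) (toUnit A ≫ u)).left ≫ (snd A At).left = A.hom ≫ u.left := by
    rw [← Over.comp_left, lift_snd, Over.comp_left, Over.toUnit_left]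
    try rfl
  refine IsPullback.of_right ?_ h2 (IsPullback.of_hasPullback A.hom At.hom)
  show IsPullback ((lift (𝟙 A) (toUnit A ≫ u)).left ≫ (fst A At).left) A.hom A.hom (u.left ≫ At.hom)
  rw [h1, hu]
  exact IsPullback.id_horiz _

section Family

variable [GrpObj A] [IsProper A.hom] [Smooth A.hom] [GeometricallyConnected A.hom]
  [GrpObj At] [IsProper At.hom] [Smooth At.hom] [GeometricallyConnected At.hom]
  {P : (pullback A.hom At.hom).Modules} [HasInjectiveResolutions (pullback A.hom At.hom).Modules]

/-- the direct images vanish above the dimension of the variety -/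
theorem isZero_Rpush_gt_of (hP : PicF.IsInvertible P) (hoff : OffVanish P) {g : ℕ} (hg : topologicalKrullDim A.left = g) {n : ℕ} (hn : g < n) :
    IsZero ((Coh.Rpush (pullback.snd A.hom At.hom) n).obj P) := by
  haveI : IsLocallyNoetherian At.left := LocallyOfFiniteType.isLocallyNoetherian At.hom
  haveI : IsLocallyNoetherian (pullback A.hom At.hom) :=
    LocallyOfFiniteType.isLocallyNoetherian (pullback.snd A.hom At.hom)
  haveI : IsLocallyNoetherian A.left := LocallyOfFiniteType.isLocallyNoetherian A.hom
  haveI : CompactSpace A.left := QuasiCompact.compactSpace_of_compactSpace A.hom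
  haveI : IsNoetherian A.left := {}
  haveI : A.left.IsSeparated := ⟨by
    rw [show terminal.from A.left = A.hom ≫ terminal.from _ from terminal.hom_ext _ _]
    infer_instance⟩
  refine AVVanish.isZero_of_locally fun y => ?_
  by_cases hy : y = unitPt
  · subst hy
    refine S2385.result _ P (AmpleVan.isCoh_invertible hP)
      (AVEuler.isFlatOver_of_finLocFree _ (ParaFX.FlatDesc.isFinLocFree_of_invertible hP)) _ n ?_
    exact (AVVanish.subsingleton_fiberH_iff (isPullback_slice η[At]) At.hom (Over.w η[At])
      (AmpleVan.isCoh_invertible hP).1 n).2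
      (Snapper.subsingleton_HH_of_dim_le hg.le (AmpleVan.isCoh_invertible (PicClLib.isInvertible_pullback _ hP)).1 hn)
  · exact hoff y hy n

set_option maxHeartbeats 3000000 in
/-- the cohomology and the direct images of the Poincaré bundle, when the dimensions agree -/
theorem main_of (hP : PicF.IsInvertible P) (h1 : UnitTriv P) (he : TrivAtUnit P) (hoff0 : OffVanish P) {g : ℕ} (hg : topologicalKrullDim A.left = g) (hg' : topologicalKrullDim At.left = g) :
    (∀ i : ℕ, i ≠ g → Subsingleton (Coh.HH (pullback A.hom At.hom) P i)) ∧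
      @Module.finrank k (Coh.HH (pullback A.hom At.hom) P g) _ _
        (@Coh.moduleOver k _ (pullback A.hom At.hom) ⟨pullback.fst A.hom At.hom ≫ A.hom⟩ P g) = 1 ∧
      (∀ i : ℕ, i < g → IsZero ((Coh.Rpush (pullback.snd A.hom At.hom) i).obj P)) ∧
      Nonempty ((Coh.Rpush (pullback.snd A.hom At.hom) g).obj P ≅
        (Coh.push η[At].left).obj (Coh.structureModule (Spec (CommRingCat.of k)))) := by
  classical
  haveI : IsLocallyNoetherian At.left := LocallyOfFiniteType.isLocallyNoetherian At.hom
  haveI : IsLocallyNoetherian (pullback A.hom At.hom) :=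
    LocallyOfFiniteType.isLocallyNoetherian (pullback.snd A.hom At.hom)
  let f := pullback.snd A.hom At.hom
  let F := (Coh.Rpush f g).obj P
  have hPc := AmpleVan.isCoh_invertible hP
  have hF : Coh.IsCoh F := QCoh.isCoh_Rpush_of_finiteness (f := f) hPc g fun A _ _ Z _ _ N hN j => S0002.result A Z N hN j
  have hloc : ∀ q, ∀ y ∉ ({unitPt} : Set At.left),
      ∃ U : At.left.Opens, y ∈ U ∧ IsZero (((Coh.Rpush f q).obj P).restrict U.ι) :=
    fun q y hy => hoff0 y hy q
  have hclZ : ∀ z ∈ ({unitPt} : Set At.left), IsClosed ({z} : Set At.left) := by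
    rintro z rfl
    exact isClosed_unitPt
  have hzero : ∀ i, i ≠ g → IsZero ((Coh.Rpush f i).obj P) := fun i hi => by
    rcases lt_or_gt_of_ne hi with h | h
    · exact isZero_Rpush_lt_of hP hoff0 hg' h
    · exact isZero_Rpush_gt_of hP hoff0 hg h
  have hvan : ∀ i, i ≠ g → Subsingleton (Coh.HH (pullback A.hom At.hom) P i) := fun i hi =>
    AVEuler.subsingleton_HH_of_isZero_finite f P (Set.finite_singleton _) hclZ hloc i (hzero i hi)
  obtain ⟨z, hz, hgen, hkill⟩ := stalk_top_of hP h1 he hoff0 hg'
  have hoff : ∀ y, y ≠ unitPt (At := At) → Subsingleton (F.presheaf.stalk y) := fun y hy =>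
    subsingleton_stalk_of_locally (hloc g y hy)
  have hne : ¬ Subsingleton (Coh.HH (pullback A.hom At.hom) P g) := fun h => by
    have hz' : IsZero F := AVVanish.isZero_Rpush_of_finite f P (Set.finite_singleton _) hclZ hloc (fun i => by
      by_cases hi : i = g
      · exact hi ▸ h
      · exact hvan i hi) g
    haveI : Subsingleton (F.presheaf.stalk unitPt) := subsingleton_stalk_of_locally
      ⟨⊤, trivial, (Scheme.Modules.restrictFunctor (⊤ : At.left.Opens).ι).map_isZero hz'⟩
    exact hz (Subsingleton.elim _ _)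
  refine ⟨hvan, ?_, fun i hi => hzero i hi.ne, nonempty_iso_push hF hoff z hz hgen hkill⟩
  -- one dimension at most, through the stalk
  obtain ⟨_, ⟨V, hV, rfl⟩, hy, -⟩ :=
    At.left.isBasis_affineOpens.exists_subset_of_mem_open (Set.mem_univ (unitPt (At := At))) isOpen_univ
  replace hV : IsAffineOpen V := hV
  let W : At.left.Opens := ⟨{unitPt}ᶜ, isClosed_unitPt.isOpen_compl⟩
  have hcov : V ⊔ W = ⊤ := by
    refine top_le_iff.1 fun y _ => ?_
    by_cases h : y = unitPt (At := At)
    · exact Or.inl (h ▸ hy)
    · exact Or.inr h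
  let ρ : k →+* Coh.Γtop (pullback A.hom At.hom) := Coh.toGlobal (pullback.fst A.hom At.hom ≫ A.hom)
  let σ : k →+* Γ(At.left, V) := (At.left.presheaf.map (homOfLE (le_top : V ≤ ⊤)).op).hom.comp (Coh.toGlobal At.hom)
  have hσ : ∀ a, rf _ (le_top : f ⁻¹ᵁ V ≤ ⊤) (ρ a) = f.app V (σ a) := fun a => by
    show rf _ _ ((pullback.fst A.hom At.hom ≫ A.hom).appTop ((Scheme.ΓSpecIso _).inv a)) = _
    rw [pullback.condition]
    exact (ConcreteCategory.congr_hom (f.naturality (homOfLE (le_top : V ≤ ⊤)).op) _).symm
  letI := modHH ρ P g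
  letI := modHH (rhoV f V) (P.restrict (f ⁻¹ᵁ V).ι) g
  obtain ⟨Φ, hΦ, hΦs⟩ := exists_restrict f hPc.1 hcov (fun q y hy => hloc q y hy) ρ σ hσ g
  obtain ⟨e⟩ := QCoh.nonempty_sections_HH (f := f) hPc.1 hV g
  let G : Coh.HH (pullback A.hom At.hom) P g → F.presheaf.stalk unitPt :=
    fun x => F.presheaf.germ V unitPt hy (e.symm (Φ x))
  have hG : Function.Injective G := fun x x' h => by
    refine hΦ (e.symm.injective ?_)
    refine TopCat.Presheaf.section_ext (⟨F.presheaf, F.isSheaf⟩ : TopCat.Sheaf Ab At.left.toTopCat) V _ _ fun y hyV => ?_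
    by_cases hy' : y = unitPt (At := At)
    · subst hy'
      exact h
    · exact @Subsingleton.elim _ (hoff y hy') _ _
  have hGs : ∀ (a : k) x, G (a • x) = @Curv2.stalkMap k _ At.left ⟨At.hom⟩ unitPt a • G x := fun a x => by
    show F.presheaf.germ V unitPt hy (e.symm (Φ (a • x))) = _
    rw [hΦs, map_smul]
    refine (QCoh.germ_smul' F hy _ _).trans (congrArg (· • G x) ?_)
    exact TopCat.Presheaf.germ_res_apply _ _ _ _ _
  letI : (pullback A.hom At.hom).Over (Spec (CommRingCat.of k)) := ⟨pullback.fst A.hom At.hom ≫ A.hom⟩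
  obtain ⟨x, hx⟩ : ∃ x : Coh.HH (pullback A.hom At.hom) P g, x ≠ 0 := by
    by_contra h
    push Not at h
    exact hne (subsingleton_of_forall_eq 0 h)
  have h0 : G 0 = 0 := by
    show F.presheaf.germ V unitPt hy (e.symm (Φ 0)) = 0
    rw [map_zero, map_zero, map_zero]
  refine finrank_eq_one x hx fun y => ?_
  obtain ⟨a, ha⟩ := hgen (G y)
  obtain ⟨b, hb⟩ := hgen (G x)
  have hb0 : b ≠ 0 := fun h => hx (hG (by rw [hb, h, map_zero, zero_smul, h0]))
  refine ⟨a * b⁻¹, hG ?_⟩
  show G ((a * b⁻¹) • x) = G y
  rw [hGs, hb, ha, smul_smul, ← map_mul, _root_.mul_assoc, inv_mul_cancel₀ hb0, _root_.mul_one]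

end Family

variable [GrpObj A] [IsProper A.hom] [Smooth A.hom] [GeometricallyConnected A.hom]
  [GrpObj At] [IsProper At.hom] [Smooth At.hom] [GeometricallyConnected At.hom]
  {φ : ∀ T : Over (Spec (CommRingCat.of k)), PicF.Cl (PicF.XT A.hom T) → (T ⟶ At)}
  (hφ : AbDual.IsDualAV Scheme.fppfPrecoverage A At φ) {P : (pullback A.hom At.hom).Modules}
  (hP : PicF.IsInvertible P) (hξ : AbDual.IsPoincareCl A At φ (PicF.cl P))
  [HasInjectiveResolutions (pullback A.hom At.hom).Modules]
include hφ hP hξ

/-- the direct images vanish above the dimension of the variety -/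
theorem isZero_Rpush_gt {g : ℕ} (hg : topologicalKrullDim A.left = g) {n : ℕ} (hn : g < n) :
    IsZero ((Coh.Rpush (pullback.snd A.hom At.hom) n).obj P) :=
  isZero_Rpush_gt_of hP (fun y hy n => exists_isZero_offUnit hφ hP hξ y hy n) hg hn

omit hP [HasInjectiveResolutions (pullback A.hom At.hom).Modules] [IsProper At.hom] [GeometricallyConnected At.hom] in
/-- the Poincaré bundle is trivial on the slice at the unit -/
theorem triv_slice : Triv ((Scheme.Modules.pullback (lift (𝟙 A) (toUnit A ≫ η[At])).left).obj P) := by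
  haveI : GeometricallyIntegral A.hom := AVDual.geometricallyIntegral_of_smooth A
  obtain ⟨-, h2⟩ := AVDual.poincare_axes hφ hξ
  rw [show toUnit A ≫ η[At] = (1 : A ⟶ At) from (Hom.one_def).symm]
  exact (PicGrp.cl_eq_cl_iff _ _).1 h2

/-- the dual has dimension at most that of the variety -/
theorem dim_le {g g' : ℕ} (hg : topologicalKrullDim A.left = g) (hg' : topologicalKrullDim At.left = g') : g' ≤ g := by
  haveI : IsLocallyNoetherian At.left := LocallyOfFiniteType.isLocallyNoetherian At.hom
  haveI : IsLocallyNoetherian (pullback A.hom At.hom) :=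
    LocallyOfFiniteType.isLocallyNoetherian (pullback.snd A.hom At.hom)
  haveI : GeometricallyIntegral A.hom := AVDual.geometricallyIntegral_of_smooth A
  by_contra hlt
  push Not at hlt
  have hall : ∀ i, IsZero ((Coh.Rpush (pullback.snd A.hom At.hom) i).obj P) := fun i => by
    rcases lt_or_ge i g' with hi | hi
    · exact isZero_Rpush_lt hφ hP hξ hg' hi
    · exact isZero_Rpush_gt hφ hP hξ hg (lt_of_lt_of_le hlt hi)
  have h0 := AVVanish.subsingleton_fiberH_zero (pullback.snd A.hom At.hom) (AmpleVan.isCoh_invertible hP)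
    (AVEuler.isFlatOver_of_finLocFree _ (ParaFX.FlatDesc.isFinLocFree_of_invertible hP)) hall
    (η[At].left (IsLocalRing.closedPoint k))
  replace h0 := (AVVanish.subsingleton_fiberH_iff (isPullback_slice η[At]) At.hom (Over.w η[At])
    (AmpleVan.isCoh_invertible hP).1 0).1 h0
  exact AVVanish.not_subsingleton_HH_zero A (QCoh.subsingleton_HH_of_iso (triv_slice hφ hξ).some 0 h0)

/-- the cohomology and the direct images of the Poincaré bundle, when the dimensions agree -/
theorem main {g : ℕ} (hg : topologicalKrullDim A.left = g) (hg' : topologicalKrullDim At.left = g) :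
    (∀ i : ℕ, i ≠ g → Subsingleton (Coh.HH (pullback A.hom At.hom) P i)) ∧
      @Module.finrank k (Coh.HH (pullback A.hom At.hom) P g) _ _
        (@Coh.moduleOver k _ (pullback A.hom At.hom) ⟨pullback.fst A.hom At.hom ≫ A.hom⟩ P g) = 1 ∧
      (∀ i : ℕ, i < g → IsZero ((Coh.Rpush (pullback.snd A.hom At.hom) i).obj P)) ∧
      Nonempty ((Coh.Rpush (pullback.snd A.hom At.hom) g).obj P ≅
        (Coh.push η[At].left).obj (Coh.structureModule (Spec (CommRingCat.of k)))) :=
  main_of hP (fun T => triv_one hφ hξ T) (fun v h => eq_one_of_triv hφ hξ v h)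
    (fun y hy n => exists_isZero_offUnit hφ hP hξ y hy n) hg hg'

end Groth.Agent.AVPoinc

end
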