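import Groth.Agent.AVPoinc.FibreCount
import Groth.Agent.AVPoinc.Main
import Groth.Agent.AVTheta.DualQuot
import Groth.Agent.AVVanish.TauEquiv
import Groth.Agent.S4717

/-!
# The family on the quotient by `K(L)`

The descended Mumford bundle is trivial exactly at the unit and has no higher direct images off the unit.
-/

noncomputable section

set_option autoImplicit false
set_option backward.isDefEq.respectTransparency false
set_option backward.isDefEq.respectTransparency.types false
set_option linter.style.haveILetI false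
set_option linter.unusedSectionVars false
set_option maxHeartbeats 1000000
set_option synthInstance.maxHeartbeats 400000

universe u

open CategoryTheory CategoryTheory.Limits MonoidalCategory CartesianMonoidalCategory MonObj AlgebraicGeometry TopologicalSpace

attribute [-instance] CategoryTheory.catToReflQuiver

namespace Groth.Agent.AVPoinc

open Groth.Agent.H23 Groth.Agent.H23.TrivBasic Groth.Agent.H23.CubeAb
open scoped Groth.Agent.H23.PicMul

variable {k : Type u} [Field k] [IsAlgClosed k] {A Q : Over (Spec (CommRingCat.of k))}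
  [GrpObj A] [IsProper A.hom] [GeometricallyIntegral A.hom] [Smooth A.hom] [GeometricallyConnected A.hom]
  [GrpObj Q] [IsProper Q.hom] [Smooth Q.hom] [GeometricallyConnected Q.hom]
  {q : A ⟶ Q} [IsMonHom q] [Flat q.left] [Surjective q.left] [QuasiCompact q.left]
  {L : A.left.Modules} (hL : PicF.IsInvertible L) {P : (A ⊗ Q).left.Modules}
  (hchar : ∀ {T : Over (Spec (CommRingCat.of k))} (a b : T ⟶ A),
    AVPair.pl (lift a (b ≫ q)) (PicF.cl P) * F (PicF.cl L) a * F (PicF.cl L) b = F (PicF.cl L) (a * b))
include hL hchar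

/-- the descended bundle is trivial at the unit -/
theorem unitTriv_of_char : UnitTriv (A := A) (At := Q) P := by
  let c := PicF.cl L
  let p := PicF.cl P
  have hc : PicF.IsInvertibleCl c := ⟨L, rfl, hL⟩
  intro T
  refine (PicGrp.cl_eq_cl_iff _ _).1 (show AVPair.pl (A ◁ (1 : T ⟶ Q)) p = 1 from ?_)
  have h := hchar (fst A T) (1 : A ⊗ T ⟶ A)
  rw [MonObj.one_comp, F_one hc, _root_.mul_one, _root_.mul_one] at h
  rw [show A ◁ (1 : T ⟶ Q) = lift (fst A T) (1 : A ⊗ T ⟶ Q) by
    apply CartesianMonoidalCategory.hom_ext <;> simp [MonObj.comp_one]]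
  exact (isUnit_F hc (fst A T)).mul_right_cancel (h.trans (_root_.one_mul _).symm)

/-- the descended bundle is trivial at the unit only -/
theorem trivAtUnit_of_char (hinj : ∀ {T : Over (Spec (CommRingCat.of k))} (x : T ⟶ A),
    AVPair.pl (lift (fst A T) (snd A T ≫ x ≫ q)) (PicF.cl P) = 1 → x ≫ q = 1) :
    TrivAtUnit (A := A) (At := Q) P := by
  let p := PicF.cl P
  intro T v hv
  let T' : Over (Spec (CommRingCat.of k)) := Over.mk (pullback.snd q.left v.left ≫ T.hom)
  let π : T' ⟶ T := Over.homMk (pullback.snd q.left v.left) rfl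
  let x : T' ⟶ A := Over.homMk (pullback.fst q.left v.left) (by
    show pullback.fst q.left v.left ≫ A.hom = pullback.snd q.left v.left ≫ T.hom
    rw [← Over.w q, ← Over.w v, ← Category.assoc, ← Category.assoc, pullback.condition])
  have hx : x ≫ q = π ≫ v := Over.OverMorphism.ext pullback.condition
  have hv' : AVPair.pl (A ◁ v) p = 1 := (PicGrp.cl_eq_cl_iff _ _).2 hv
  have h := congrArg (AVPair.pl (A ◁ π)) hv'
  rw [AVPair.pl_pl] at h
  have h' : AVPair.pl (lift (fst A T') (snd A T' ≫ x ≫ q)) p = 1 := by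
    rw [hx, show lift (fst A T') (snd A T' ≫ π ≫ v) = (A ◁ π) ≫ (A ◁ v) by
      apply CartesianMonoidalCategory.hom_ext <;> simp]
    exact h.trans (PicMul.pullCl_one _)
  have hπ : π ≫ v = π ≫ 1 := by rw [← hx, hinj x h', MonObj.comp_one]
  apply Over.OverMorphism.ext
  haveI : Flat (pullback.snd q.left v.left) := MorphismProperty.pullback_snd _ _ inferInstance
  haveI : Surjective (pullback.snd q.left v.left) := MorphismProperty.pullback_snd _ _ inferInstance
  haveI := Flat.epi_of_flat_of_surjective (pullback.snd q.left v.left)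
  exact (cancel_epi (pullback.snd q.left v.left)).1 (congrArg CommaMorphism.left hπ)

set_option maxHeartbeats 3000000 in
/-- the descended bundle has no higher direct images off the unit -/
theorem offVanish_of_char (hP : PicF.IsInvertible P)
    (hker : ∀ z : 𝟙_ (Over (Spec (CommRingCat.of k))) ⟶ A, F (PicF.cl L) (tr z) = PicF.cl L → z ≫ q = 1)
    [HasInjectiveResolutions (pullback A.hom Q.hom).Modules] : OffVanish (A := A) (At := Q) P := by
  haveI : IsIntegral A.left := GeometricallyIntegral.isIntegral_of_subsingleton A.hom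
  haveI : IsCommMonObj A := isCommMonObj_of_isProper_of_geometricallyIntegral A
  haveI : IsLocallyNoetherian A.left := LocallyOfFiniteType.isLocallyNoetherian A.hom
  haveI : IsLocallyNoetherian Q.left := LocallyOfFiniteType.isLocallyNoetherian Q.hom
  haveI : IsLocallyNoetherian (pullback A.hom Q.hom) :=
    LocallyOfFiniteType.isLocallyNoetherian (pullback.snd A.hom Q.hom)
  haveI : IsLocallyNoetherian (A ⊗ Q).left :=
    LocallyOfFiniteType.isLocallyNoetherian (pullback.snd A.hom Q.hom)
  let c := PicF.cl L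
  let p := PicF.cl P
  have hc : PicF.IsInvertibleCl c := ⟨L, rfl, hL⟩
  have hu : IsUnit c := PicMul.isUnit_of_isInvertibleCl hc
  have hlift : ∀ w : 𝟙_ (Over (Spec (CommRingCat.of k))) ⟶ Q, ∃ x, x ≫ q = w := by
    intro w
    haveI : JacobsonSpace ↥A.left := LocallyOfFiniteType.jacobsonSpace A.hom
    have hwc : IsClosed ({w.left (IsLocalRing.closedPoint k)} : Set Q.left) :=
      ((pointEquivClosedPoint Q.hom) ⟨w.left, Over.w w⟩).2
    obtain ⟨z, hz1, hz2⟩ := nonempty_inter_closedPoints
      (Z := q.left ⁻¹' {w.left (IsLocalRing.closedPoint k)})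
      (q.left.surjective _) (hwc.preimage q.left.continuous).isLocallyClosed
    obtain ⟨x, hx⟩ := AVVanish.exists_rational A hz2
    refine ⟨x, AVEuler.point_injective ?_⟩
    show q.left (x.left (IsLocalRing.closedPoint k)) = _
    rw [hx]
    exact hz1
  intro y hy i
  haveI : JacobsonSpace ↥Q.left := LocallyOfFiniteType.jacobsonSpace Q.hom
  have hcl := isClosed_unitPt (At := Q)
  obtain ⟨z, ⟨hz1, hz3⟩, hz2⟩ := nonempty_inter_closedPoints (Z := closure ({y} : Set Q.left) ∩ {unitPt}ᶜ)
    ⟨y, subset_closure rfl, hy⟩ (isClosed_closure.isLocallyClosed.inter hcl.isOpen_compl.isLocallyClosed)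
  obtain ⟨w, hw⟩ := AVVanish.exists_rational Q hz2
  obtain ⟨x, hxw⟩ := hlift w
  have hs : AVPair.pl (lift (𝟙 A) (toUnit A ≫ w)) p * c = F c (tr x) := by
    have h := hchar (𝟙 A) (toUnit A ≫ x)
    rw [show F c (𝟙 A) = c from PicClLib.pullCl_id c, F_const hc, _root_.mul_one, Category.assoc, hxw] at h
    exact h
  let s := AVPair.pl (lift (𝟙 A) (toUnit A ≫ w)) p
  have hinv : ∀ a, F s (tr a) = s := by
    intro a
    have h := congrArg (fun t => F t (tr a)) hs
    simp only [F_mul] at h
    rw [show F (F c (tr x)) (tr a) = F c (tr a ≫ tr x) from pull_F _ _ _, AVVanish.tr_comp] at h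
    refine ((isUnit_F hc (tr a)).mul hu).mul_right_cancel ?_
    rw [← _root_.mul_assoc, h, square hc a x, ← hs]
    ac_rfl
  have hne : s ≠ 1 := fun h => hz3 (by
    have h' : F c (tr x) = c := by
      rw [← hs]
      show s * c = c
      rw [h, _root_.one_mul]
    rw [Set.mem_singleton_iff, ← hw, ← hxw, hker x h', Hom.one_def,
      toUnit_unique (toUnit _) (𝟙 _), Category.id_comp])
  have hPc := AmpleVan.isCoh_invertible hP
  have hv : Subsingleton (CohIII.fiberH (pullback.snd A.hom Q.hom) P (w.left (IsLocalRing.closedPoint k)) i) :=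
    (AVVanish.subsingleton_fiberH_iff (isPullback_slice w) Q.hom (Over.w w) hPc.1 i).2
      (AVVanish.subsingleton_HH_of_invariant A (PicClLib.isInvertible_pullback _ hP) rfl hinv hne i)
  obtain ⟨U, hzU, hU⟩ := S2385.result (pullback.snd A.hom Q.hom) P hPc
    (AVEuler.isFlatOver_of_finLocFree _ (ParaFX.FlatDesc.isFinLocFree_of_invertible hP)) _ i hv
  rw [hw] at hzU
  refine ⟨U, ?_, hU⟩
  obtain ⟨v, hvU, hvy⟩ := mem_closure_iff.1 hz1 U U.2 hzU
  rwa [Set.mem_singleton_iff.1 hvy] at hvU

end Groth.Agent.AVPoinc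

end
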