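import Groth.Agent.FlatCxLib.Exchange
import Groth.Agent.FlatCxLib.Local
import Groth.Agent.QCoh.BcT
import Groth.Agent.CotTLib.CI
import Groth.Agent.AssLib.Basic

/-!
# Complexes over regular local rings with small cohomology modulo colength two

If a complex of flat modules over a regular local ring of dimension `g` has homology only in degree `-g`, of
finite length `M`, then tensoring with the quotient by `g` parameters gives the elements of `M` killed by them in
degree `0`. So `M` is the residue field as soon as that is cyclic for the maximal ideal and killed by the maximal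
ideal for every ideal containing its square.
-/

noncomputable section

set_option autoImplicit false
set_option backward.isDefEq.respectTransparency false
set_option linter.style.haveILetI false

universe u

open CategoryTheory CategoryTheory.Limits RingTheory.Sequence
open scoped Pointwise

namespace Groth.Agent.AVPoinc

variable {R : Type u} [CommRing R] (P : ChainComplex (ModuleCat.{u} R) ℤ)

/-- one element of a regular sequence shifts the degree -/
theorem exists_step (hP : ∀ i, Module.Flat R (P.X i)) (N : Type u) [AddCommGroup N] [Module R N] (y : R)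
    (hy : IsSMulRegular N y) (q₀ : ℤ)
    (hN : ∀ q, q₀ < q → IsZero (CohIII.T P q (ModuleCat.of R N))) :
    (∀ q, q₀ + 1 < q → IsZero (CohIII.T P q (ModuleCat.of R (QuotSMulTop y N)))) ∧
      ∃ f : CohIII.T P (q₀ + 1) (ModuleCat.of R (QuotSMulTop y N)) →ₗ[R] CohIII.T P q₀ (ModuleCat.of R N),
        Function.Injective f ∧ ∀ v, v ∈ LinearMap.range f ↔ y • v = 0 := by
  let π : N →ₗ[R] QuotSMulTop y N := Submodule.mkQ _
  let μ : N →ₗ[R] N := y • LinearMap.id
  have hw : π ∘ₗ μ = 0 := LinearMap.ext fun v =>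
    (Submodule.Quotient.mk_eq_zero _).2 (Submodule.smul_mem_pointwise_smul v y ⊤ trivial)
  let S : ShortComplex (ModuleCat.{u} R) :=
    ShortComplex.mk (ModuleCat.ofHom μ) (ModuleCat.ofHom π) (ModuleCat.hom_ext hw)
  have hS : S.ShortExact :=
    { exact := (ShortComplex.moduleCat_exact_iff _).2 fun x hx => by
        obtain ⟨v, -, hv⟩ := (Submodule.mem_smul_pointwise_iff_exists _ _ _).1 ((Submodule.Quotient.mk_eq_zero _).1 hx)
        exact ⟨v, hv⟩
      mono_f := (ModuleCat.mono_iff_injective _).2 hy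
      epi_g := (ModuleCat.epi_iff_surjective _).2 (Submodule.mkQ_surjective _) }
  have hC := FlatCxLib.shortExact_tensorSC (P := P) hP hS
  refine ⟨fun q hq => ?_, ?_⟩
  · have hij : (ComplexShape.down ℤ).Rel q (q - 1) := sub_add_cancel q 1
    exact (hC.homology_exact₃ q (q - 1) hij).isZero_of_both_zeros ((hN q (by omega)).eq_of_src _ _)
      ((hN (q - 1) (by omega)).eq_of_tgt _ _)
  · have hij : (ComplexShape.down ℤ).Rel (q₀ + 1) q₀ := rfl
    haveI := hC.mono_δ (q₀ + 1) q₀ hij (hN (q₀ + 1) (by omega))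
    refine ⟨(hC.δ (q₀ + 1) q₀ hij).hom, (ModuleCat.mono_iff_injective _).1 inferInstance, fun v => ?_⟩
    have hex := (ShortComplex.moduleCat_exact_iff _).1 (hC.homology_exact₁ (q₀ + 1) q₀ hij)
    have hμ : (HomologicalComplex.homologyMap (FlatCxLib.tensorSC P S).f q₀).hom v = y • v :=
      FlatCxLib.tfun_map_smul q₀ (ModuleCat.of R N) y v
    constructor
    · rintro ⟨w, rfl⟩
      exact hμ.symm.trans (ConcreteCategory.congr_hom (hC.δ_comp (q₀ + 1) q₀ hij) w)
    · intro hv
      exact hex v (hμ.trans hv)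

/-- a regular sequence shifts the degree by its length -/
theorem exists_iter (hP : ∀ i, Module.Flat R (P.X i)) : ∀ (ys : List R) (N : Type u) [AddCommGroup N] [Module R N],
    IsWeaklyRegular N ys → ∀ q₀ : ℤ, (∀ q, q₀ < q → IsZero (CohIII.T P q (ModuleCat.of R N))) →
      ∃ f : CohIII.T P (q₀ + ys.length) (ModuleCat.of R (N ⧸ (Ideal.ofList ys • ⊤ : Submodule R N))) →ₗ[R]
          CohIII.T P q₀ (ModuleCat.of R N),
        Function.Injective f ∧ ∀ v, v ∈ LinearMap.range f ↔ ∀ y ∈ ys, y • v = 0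
  | [], N, _, _, _, q₀, _ => by
    have hbot : (Ideal.ofList ([] : List R) • ⊤ : Submodule R N) = ⊥ := by
      rw [Ideal.ofList_nil, Submodule.bot_smul]
    let e := (Submodule.quotEquivOfEqBot _ hbot).toModuleIso
    rw [show q₀ + (([] : List R).length : ℤ) = q₀ from add_zero q₀]
    let e' := ((CohIII.TFun P q₀).mapIso e).toLinearEquiv
    exact ⟨e'.toLinearMap, e'.injective, fun v => ⟨fun _ y hy => absurd hy (List.not_mem_nil),
      fun _ => ⟨e'.symm v, e'.apply_symm_apply v⟩⟩⟩
  | y :: ys, N, _, _, hreg, q₀, hN => by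
    obtain ⟨hy, hys⟩ := (isWeaklyRegular_cons_iff N y ys).1 hreg
    obtain ⟨hN', f, hf, hrange⟩ := exists_step P hP N y hy q₀ hN
    obtain ⟨f', hf', hrange'⟩ := exists_iter hP ys (QuotSMulTop y N) hys (q₀ + 1) hN'
    let e := (Submodule.quotOfListConsSMulTopEquivQuotSMulTopInner N y ys).toModuleIso
    rw [show q₀ + ((y :: ys).length : ℤ) = q₀ + 1 + ys.length by rw [List.length_cons]; push_cast; ring]
    let e' := ((CohIII.TFun P (q₀ + 1 + ys.length)).mapIso e).toLinearEquiv
    refine ⟨f.comp (f'.comp e'.toLinearMap), hf.comp (hf'.comp e'.injective), fun v => ⟨?_, fun hv => ?_⟩⟩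
    · rintro ⟨w, rfl⟩ z hz
      rcases List.mem_cons.1 hz with rfl | hz
      · exact (hrange _).1 ⟨_, rfl⟩
      · show z • f (f' (e' w)) = 0
        rw [← map_smul, (hrange' _).1 ⟨_, rfl⟩ z hz, map_zero]
    · obtain ⟨w, rfl⟩ := (hrange v).2 (hv y List.mem_cons_self)
      obtain ⟨x, rfl⟩ := (hrange' w).2 fun z hz => hf (by
        rw [map_smul, map_zero]
        exact hv z (List.mem_cons_of_mem _ hz))
      exact ⟨e'.symm x, show f (f' (e' (e'.symm x))) = f (f' x) by rw [e'.apply_symm_apply]⟩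

variable [IsRegularLocalRing R]

open IsLocalRing in
/-- an ideal of colength two containing the square of the maximal ideal has `g` parameters as generators -/
theorem exists_generators {g : ℕ} (hg : ringKrullDim R = g) (J : Ideal R) (hJ : J ≤ maximalIdeal R)
    (hsq : maximalIdeal R ^ 2 ≤ J) (x₁ : R) (hx₁m : x₁ ∈ maximalIdeal R) (hx₁ : x₁ ∉ J)
    (hline : ∀ t ∈ maximalIdeal R, ∃ c, t - c * x₁ ∈ J) :
    ∃ ys : List R, ys.length = g ∧ Ideal.ofList ys = J ∧ IsWeaklyRegular R ys := by
  classical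
  let fin := Submodule.FG.finite_generators (maximalIdeal R).fg_of_isNoetherianRing
  let l := fin.toFinset.toList
  have hl : l.length = g := by
    rw [Finset.length_toList, ← Set.ncard_eq_toFinset_card _ fin,
      Submodule.FG.generators_ncard (maximalIdeal R).fg_of_isNoetherianRing,
      CAlgGlobalDim.spanFinrank_eq_of_dim R g hg]
  have hspan : Ideal.ofList l = maximalIdeal R :=
    (congrArg Ideal.span (Set.ext fun z => by simp [l])).trans (maximalIdeal R).span_generators
  obtain ⟨z, hz, hzJ⟩ : ∃ z ∈ l, z ∉ J := by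
    by_contra! h
    exact hx₁ (Ideal.span_le.2 h (hspan.ge hx₁m : x₁ ∈ Ideal.ofList l))
  have hzm : z ∈ maximalIdeal R := hspan.le (Ideal.subset_span hz)
  -- `z` spans the line too
  obtain ⟨c₀, hc₀⟩ := hline z hzm
  have hc₀u : IsUnit c₀ := by
    by_contra hu
    refine hzJ ?_
    have hcx : c₀ * x₁ ∈ maximalIdeal R ^ 2 := by
      rw [pow_two]
      exact Ideal.mul_mem_mul hu hx₁m
    simpa using J.add_mem hc₀ (hsq hcx)
  have hline' : ∀ t ∈ maximalIdeal R, ∃ c, t - c * z ∈ J := by
    intro t ht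
    obtain ⟨c, hc⟩ := hline t ht
    obtain ⟨v, hv⟩ := hc₀u.exists_left_inv
    refine ⟨c * v, ?_⟩
    have := J.sub_mem hc (J.mul_mem_left (c * v) hc₀)
    rwa [show t - c * x₁ - c * v * (z - c₀ * x₁) = t - c * v * z + (v * c₀ - 1) * (c * x₁) by ring,
      hv, sub_self, zero_mul, add_zero] at this
  choose! c hc using hline'
  let others := (l.erase z).map fun t => t - c t * z
  let ys := z ^ 2 :: others
  have hlen : ys.length = g := by
    rw [List.length_cons, List.length_map, List.length_erase_of_mem hz, hl]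
    have : 0 < l.length := List.length_pos_of_mem hz
    omega
  have hle : Ideal.ofList ys ≤ J := by
    refine Ideal.span_le.2 fun w hw => ?_
    rcases List.mem_cons.1 hw with rfl | hw
    · exact hsq (Ideal.pow_mem_pow hzm 2)
    · obtain ⟨t, ht, rfl⟩ := List.mem_map.1 hw
      exact hc t (hspan.le (Ideal.subset_span (List.mem_of_mem_erase ht)))
  have hz2 : z ^ 2 ∈ Ideal.ofList ys := Ideal.subset_span List.mem_cons_self
  have hsup : maximalIdeal R ≤ Ideal.ofList ys ⊔ Ideal.span {z} := by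
    rw [← hspan]
    refine Ideal.span_le.2 fun t ht => ?_
    by_cases htz : t = z
    · exact Ideal.mem_sup_right (Ideal.subset_span (Set.mem_singleton_iff.2 htz))
    have hmem : t - c t * z ∈ Ideal.ofList ys := Ideal.subset_span
      (List.mem_cons_of_mem _ (List.mem_map.2 ⟨t, (List.mem_erase_of_ne htz).2 ht, rfl⟩))
    rw [← sub_add_cancel t (c t * z)]
    exact add_mem (Ideal.mem_sup_left hmem)
      (Ideal.mem_sup_right (Ideal.mul_mem_left _ _ (Ideal.subset_span rfl)))
  have hge : J ≤ Ideal.ofList ys := by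
    intro a ha
    obtain ⟨b, hb, e, he, rfl⟩ := Submodule.mem_sup.1 (hsup (hJ ha))
    obtain ⟨d, rfl⟩ := Ideal.mem_span_singleton'.1 he
    have hd : d * z ∈ J := by simpa using J.sub_mem ha (hle hb)
    have hdm : d ∈ maximalIdeal R := by
      by_contra hdu
      exact hzJ ((Ideal.unit_mul_mem_iff_mem J (IsLocalRing.notMem_maximalIdeal.1 hdu)).1 hd)
    obtain ⟨b', hb', e', he', rfl⟩ := Submodule.mem_sup.1 (hsup hdm)
    obtain ⟨d', rfl⟩ := Ideal.mem_span_singleton'.1 he'
    refine add_mem hb ?_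
    rw [show (b' + d' * z) * z = b' * z + d' * z ^ 2 by ring]
    exact add_mem (Ideal.mul_mem_right _ _ hb') (Ideal.mul_mem_left _ _ hz2)
  have hJys : Ideal.ofList ys = J := le_antisymm hle hge
  refine ⟨ys, hlen, hJys, CotTLib.isWeaklyRegular_of_dim ys (fun r hr => hJ (hle (Ideal.subset_span hr))) ?_⟩
  haveI : Nontrivial (R ⧸ J) := Ideal.Quotient.nontrivial_iff.2 fun e => hzJ (e ▸ Submodule.mem_top)
  have h0 : ringKrullDim (R ⧸ J) = 0 := by
    refine ringKrullDimZero_iff_ringKrullDim_eq_zero.1 (Ring.KrullDimLE.mk₀ fun p hp => ?_)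
    have hmax : p.comap (Ideal.Quotient.mk J) = maximalIdeal R := by
      haveI := hp
      have hq : (p.comap (Ideal.Quotient.mk J)).IsPrime := Ideal.comap_isPrime _ _
      refine le_antisymm (le_maximalIdeal hq.ne_top) fun t ht => ?_
      refine hq.mem_of_pow_mem 2 ?_
      show Ideal.Quotient.mk J (t ^ 2) ∈ p
      rw [Ideal.Quotient.eq_zero_iff_mem.2 (hsq (Ideal.pow_mem_pow ht 2))]
      exact zero_mem p
    rw [← Ideal.map_comap_of_surjective _ Ideal.Quotient.mk_surjective p, hmax]
    refine (Ideal.map_eq_top_or_isMaximal_of_surjective _ Ideal.Quotient.mk_surjective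
      (maximalIdeal.isMaximal R)).resolve_left fun e => hp.ne_top ?_
    rw [← Ideal.map_comap_of_surjective _ Ideal.Quotient.mk_surjective p, hmax, e]
  rw [hlen, hJys, h0, hg, add_zero]

/-- the top homology is at most the residue field -/
theorem homology_simple {g : ℕ} (hg : ringKrullDim R = g) (hP : ∀ i, Module.Flat R (P.X i))
    (hvan : ∀ q : ℤ, -(g : ℤ) < q → IsZero (P.homology q)) (hfl : IsFiniteLength R (P.homology (-(g : ℤ))))
    (hcyc : ∃ z : CohIII.T P 0 (ModuleCat.of R (R ⧸ IsLocalRing.maximalIdeal R)),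
      ∀ w, ∃ c : R, w = c • z)
    (hsq : ∀ J : Ideal R, IsLocalRing.maximalIdeal R ^ 2 ≤ J → J ≤ IsLocalRing.maximalIdeal R →
      J ≠ IsLocalRing.maximalIdeal R → ∀ w : CohIII.T P 0 (ModuleCat.of R (R ⧸ J)),
      ∀ t ∈ IsLocalRing.maximalIdeal R, t • w = 0) :
    ∃ z : P.homology (-(g : ℤ)), (∀ t ∈ IsLocalRing.maximalIdeal R, t • z = 0) ∧ (∀ v, ∃ c : R, v = c • z) ∧
      Nonempty (CohIII.T P 0 (ModuleCat.of R (R ⧸ IsLocalRing.maximalIdeal R)) ≃ₗ[R] P.homology (-(g : ℤ))) := by
  classical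
  let M := P.homology (-(g : ℤ))
  -- the elements killed by `g` parameters
  have key : ∀ (ys : List R) (J : Ideal R), ys.length = g → Ideal.ofList ys = J → IsWeaklyRegular R ys →
      ∃ f : CohIII.T P 0 (ModuleCat.of R (R ⧸ J)) →ₗ[R] M,
        Function.Injective f ∧ ∀ v, v ∈ LinearMap.range f ↔ ∀ y ∈ ys, y • v = 0 := by
    intro ys J hlen hJ hreg
    subst hJ
    let s := fun q : ℤ => ((HomologicalComplex.homologyFunctor _ _ q).mapIso (QCoh.tensorSelfIso P)).toLinearEquiv
    obtain ⟨f, hf, hr⟩ := exists_iter P hP ys R hreg (-(g : ℤ)) fun q hq =>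
      (hvan q hq).of_iso ((HomologicalComplex.homologyFunctor _ _ q).mapIso (QCoh.tensorSelfIso P))
    revert f
    rw [hlen, neg_add_cancel]
    intro f hf hr
    let e := (Submodule.quotEquivOfEq (Ideal.ofList ys) (Ideal.ofList ys • ⊤ : Submodule R R)
      (by rw [smul_eq_mul, Ideal.mul_top])).toModuleIso
    let e' := ((CohIII.TFun P 0).mapIso e).toLinearEquiv
    refine ⟨(s _).toLinearMap.comp (f.comp e'.toLinearMap), (s _).injective.comp (hf.comp e'.injective), fun v => ?_⟩
    constructor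
    · rintro ⟨w, rfl⟩ y hy
      show y • (s _) (f (e' w)) = 0
      rw [← map_smul, (hr _).1 ⟨_, rfl⟩ y hy, map_zero]
    · intro hv
      obtain ⟨w, hw⟩ := (hr ((s _).symm v)).2 fun y hy =>
        ((s _).symm.map_smul y v).symm.trans ((congrArg (s _).symm (hv y hy)).trans (map_zero _))
      exact ⟨e'.symm w, show (s _) (f (e' (e'.symm w))) = v by
        rw [e'.apply_symm_apply, hw, LinearEquiv.apply_symm_apply]⟩
  -- the socle
  obtain ⟨l, hlen, hlm, hlreg⟩ : ∃ l : List R, l.length = g ∧ Ideal.ofList l = IsLocalRing.maximalIdeal R ∧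
      IsWeaklyRegular R l := by
    let fin := Submodule.FG.finite_generators (IsLocalRing.maximalIdeal R).fg_of_isNoetherianRing
    have hl : fin.toFinset.toList.length = g := by
      rw [Finset.length_toList, ← Set.ncard_eq_toFinset_card _ fin,
        Submodule.FG.generators_ncard (IsLocalRing.maximalIdeal R).fg_of_isNoetherianRing,
        CAlgGlobalDim.spanFinrank_eq_of_dim R g hg]
    have hs : Ideal.ofList fin.toFinset.toList = IsLocalRing.maximalIdeal R :=
      (congrArg Ideal.span (Set.ext fun z => by simp)).trans (IsLocalRing.maximalIdeal R).span_generators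
    exact ⟨_, hl, hs, CAlgGlobalDim.isWeaklyRegular_of_generators g R _ hl hs
      (CAlgGlobalDim.spanFinrank_eq_of_dim R g hg).ge⟩
  obtain ⟨z₀, hz₀⟩ := hcyc
  obtain ⟨f, hf, hfr⟩ := key l _ hlen hlm hlreg
  have hsoc : ∀ v, v ∈ LinearMap.range f ↔ ∀ t ∈ IsLocalRing.maximalIdeal R, t • v = 0 := by
    intro v
    rw [hfr v]
    constructor
    · intro h t ht
      rw [← hlm] at ht
      induction ht using Submodule.span_induction with
      | mem y hy => exact h y hy
      | zero => exact zero_smul R v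
      | add a b _ _ ha hb => rw [add_smul, ha, hb, add_zero]
      | smul a b _ hb => rw [smul_eq_mul, mul_smul, hb, smul_zero]
    · exact fun h y hy => h y (hlm.le (Ideal.subset_span hy))
  -- killed by the square means killed
  have two : ∀ v : M, (∀ a ∈ IsLocalRing.maximalIdeal R, ∀ b ∈ IsLocalRing.maximalIdeal R, (a * b) • v = 0) →
      ∀ t ∈ IsLocalRing.maximalIdeal R, t • v = 0 := by
    intro v hv
    by_contra! hcon
    obtain ⟨x₁, hx₁m, hx₁⟩ := hcon
    let J : Ideal R := LinearMap.ker (LinearMap.toSpanSingleton R M v)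
    have hJ' : ∀ t, t ∈ J ↔ t • v = 0 := fun t => Iff.rfl
    have hJm : J ≤ IsLocalRing.maximalIdeal R := IsLocalRing.le_maximalIdeal fun e => hx₁ ((hJ' _).1 (e ▸ trivial))
    have hsqJ : IsLocalRing.maximalIdeal R ^ 2 ≤ J := by
      rw [pow_two, Ideal.mul_le]
      exact fun a ha b hb => (hJ' _).2 (hv a ha b hb)
    have hline : ∀ t ∈ IsLocalRing.maximalIdeal R, ∃ c, t - c * x₁ ∈ J := by
      intro t ht
      obtain ⟨wt, hwt⟩ := (hsoc (t • v)).2 fun s hs => by rw [← mul_smul]; exact hv s hs t ht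
      obtain ⟨w₁, hw₁⟩ := (hsoc (x₁ • v)).2 fun s hs => by rw [← mul_smul]; exact hv s hs x₁ hx₁m
      obtain ⟨a, ha⟩ := hz₀ wt
      obtain ⟨b, hb⟩ := hz₀ w₁
      have hbu : IsUnit b := by
        by_contra hu
        refine hx₁ ?_
        rw [← hw₁, hb, map_smul]
        exact (hsoc _).1 ⟨z₀, rfl⟩ b hu
      obtain ⟨b', hb'⟩ := hbu.exists_left_inv
      refine ⟨a * b', (hJ' _).2 ?_⟩
      rw [sub_smul, mul_smul (a * b'), ← hwt, ← hw₁, ha, hb, map_smul, map_smul, smul_smul, mul_assoc, hb', mul_one,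
        sub_self]
    obtain ⟨ys, hys, hysJ, hreg⟩ := exists_generators hg J hJm hsqJ x₁ hx₁m (fun h => hx₁ ((hJ' _).1 h)) hline
    obtain ⟨fJ, -, hfJr⟩ := key ys J hys hysJ hreg
    obtain ⟨w, hw⟩ := (hfJr v).2 fun y hy => (hJ' y).1 (hysJ ▸ Ideal.subset_span hy)
    refine hx₁ ?_
    rw [← hw, ← map_smul, hsq J hsqJ hJm (fun e => hx₁ ((hJ' _).1 (e ▸ hx₁m))) w x₁ hx₁m, map_zero]
  -- finite length
  obtain ⟨n, hn⟩ : ∃ n, IsLocalRing.maximalIdeal R ^ n ≤ Module.annihilator R M :=
    haveI := (isFiniteLength_iff_isNoetherian_isArtinian.1 hfl).1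
    haveI := (isFiniteLength_iff_isNoetherian_isArtinian.1 hfl).2
    AssLib.exists_pow_le_annihilator R M
  have all : ∀ n (v : M), (∀ a ∈ IsLocalRing.maximalIdeal R ^ n, a • v = 0) →
      ∀ t ∈ IsLocalRing.maximalIdeal R, t • v = 0 := by
    intro n
    induction n with
    | zero =>
      intro v hv t _
      rw [show v = 0 by simpa using hv 1 (by simp), smul_zero]
    | succ n ih =>
      intro v hv
      refine two v fun a ha b hb => ?_
      rw [mul_smul]
      refine ih (b • v) (fun x hx => ?_) a ha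
      rw [← mul_smul]
      exact hv _ (by rw [pow_succ]; exact Ideal.mul_mem_mul hx hb)
  have hkill : ∀ v : M, ∀ t ∈ IsLocalRing.maximalIdeal R, t • v = 0 := fun v =>
    all n v fun a ha => Module.mem_annihilator.1 (hn ha) v
  have hsurj : Function.Surjective f := fun v => (hsoc v).2 (hkill v)
  refine ⟨f z₀, hkill _, fun v => ?_, ⟨LinearEquiv.ofBijective f ⟨hf, hsurj⟩⟩⟩
  obtain ⟨w, rfl⟩ := hsurj v
  obtain ⟨c, rfl⟩ := hz₀ w
  exact ⟨c, map_smul _ _ _⟩

end Groth.Agent.AVPoinc

end
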