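import Groth.Agent.H23.Seesaw

/-!
# Infinitesimal triviality from one section

A family over a local ring with square-zero maximal ideal, trivial on the closed fibre, is trivial once it has a
global section not killed by the maximal ideal.
-/

noncomputable section

set_option autoImplicit false
set_option backward.isDefEq.respectTransparency false
set_option backward.isDefEq.respectTransparency.types false
set_option linter.style.haveILetI false
set_option maxHeartbeats 1000000

universe u

open CategoryTheory CategoryTheory.Limits AlgebraicGeometry TopologicalSpace Opposite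

namespace Groth.Agent.AVPoinc

open Groth.Agent.H23 Groth.Agent.InvX Groth.Agent.H23.TrivBasic

variable {C : Type u} [CommRing C] [IsLocalRing C] [IsNoetherianRing C] {X : Scheme.{u}}
  [X.Over (Spec (CommRingCat.of C))] [IsProper (X ↘ Spec (CommRingCat.of C))] [Flat (X ↘ Spec (CommRingCat.of C))]

theorem triv_of_smul_ne_zero {L : X.Modules} (hL : PicF.IsInvertible L)
    (h0 : Seesaw.FibreH0 X (IsLocalRing.closedPoint C)) (hT : Seesaw.FibreTriv (A := C) L (IsLocalRing.closedPoint C))
    (hsq : ∀ a ∈ IsLocalRing.maximalIdeal C, ∀ b ∈ IsLocalRing.maximalIdeal C, a * b = 0) (s : Γ(L, ⊤)) {t : C}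
    (ht : t ∈ IsLocalRing.maximalIdeal C)
    (hs : (show Γ(X, ⊤) from Coh.toGlobal (X ↘ Spec (CommRingCat.of C)) t) • s ≠ 0) : Triv L := by
  let π := X ↘ Spec (CommRingCat.of C)
  obtain ⟨Q, _, e, hQ⟩ := Seesaw.exists_rep (A := C) L hL
  obtain ⟨eB, he1, he2⟩ := hQ C X (𝟙 X) π (by
    rw [show CommRingCat.ofHom (algebraMap C C) = 𝟙 (CommRingCat.of C) from rfl, Spec.map_id]
    exact IsPullback.of_horiz_isIso ⟨by simp; rfl⟩)
  let f := e.symm s
  have hes : eB f = pullElt (𝟙 X) s := by
    have h := he2 f
    rwa [show Algebra.linearMap C C ∘ₗ f = f from LinearMap.ext fun q => rfl, e.apply_symm_apply] at h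
  have hinj : Function.Injective fun v : Γ(L, ⊤) => pullElt (𝟙 X) v := by
    intro v w hvw
    have hv := he2 (e.symm v)
    have hw := he2 (e.symm w)
    rw [e.apply_symm_apply, show Algebra.linearMap C C ∘ₗ e.symm v = e.symm v from LinearMap.ext fun q => rfl] at hv
    rw [e.apply_symm_apply, show Algebra.linearMap C C ∘ₗ e.symm w = e.symm w from LinearMap.ext fun q => rfl] at hw
    exact e.symm.injective (eB.injective (hv.trans (hvw.trans hw.symm)))
  obtain ⟨q, hq⟩ : ∃ q, f q ∉ IsLocalRing.maximalIdeal C := by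
    by_contra! hall
    refine hs (hinj ?_)
    have h1 : LinearMap.mulLeft C t ∘ₗ f = 0 := LinearMap.ext fun q => hsq t ht _ (hall q)
    have h2 := he1 t f
    rw [h1, map_zero, hes] at h2
    show pullElt (𝟙 X) ((show Γ(X, ⊤) from Coh.toGlobal π t) • s) = pullElt (𝟙 X) 0
    refine (Scheme.Modules.Hom.app_smul ((Scheme.Modules.pullbackPushforwardAdjunction (𝟙 X)).unit.app L)
      (U := ⊤) (show Γ(X, ⊤) from Coh.toGlobal π t) s).trans ?_
    refine h2.symm.trans (map_zero _).symm
  obtain ⟨U, hxU, hU⟩ := Seesaw.exists_frame_of_form hL hQ (IsLocalRing.closedPoint C) h0 hT f fun h => by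
    refine hq ?_
    have h3 := congr($h q)
    exact (Ideal.algebraMap_residueField_eq_zero).1 h3
  have hUtop : U = ⊤ := top_le_iff.1 fun x _ => U.2.stableUnderGeneralization
    ((PrimeSpectrum.le_iff_specializes x (IsLocalRing.closedPoint C)).1
      (IsLocalRing.le_maximalIdeal x.2.ne_top)) hxU
  subst hUtop
  exact triv_of_frame (e := AModX.res L (le_top : π ⁻¹ᵁ ⊤ ≤ ⊤) (e f)) hU

end Groth.Agent.AVPoinc

end
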