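import Groth.Agent.QCoh.RpushExchange
import Groth.Agent.QCoh.GodHH
import Groth.Agent.PicClLib.Basic

/-!
# The local model and sections over Artinian neighbourhoods
-/

noncomputable section

set_option autoImplicit false
set_option backward.isDefEq.respectTransparency false
set_option backward.isDefEq.respectTransparency.types false
set_option linter.style.haveILetI false
set_option maxHeartbeats 1000000

universe u

open CategoryTheory CategoryTheory.Limits AlgebraicGeometry TopologicalSpace Opposite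

namespace Groth.Agent.AVPoinc

open Groth.Agent.QCoh

/-- extension of scalars in two steps -/
def bcCxComp {R B C : Type u} [CommRing R] [CommRing B] [CommRing C] (φ : R →+* B) (ψ : B →+* C)
    (P : ChainComplex (ModuleCat.{u} R) ℤ) : CohIII.bcCx (ψ.comp φ) P ≅ CohIII.bcCx ψ (CohIII.bcCx φ P) :=
  HomologicalComplex.Hom.isoOfComponents (fun n => (ModuleCat.extendScalarsComp φ ψ).app (P.X n))
    fun a b _ => ((ModuleCat.extendScalarsComp φ ψ).hom.naturality (P.d a b)).symm

/-- values of `T` on quotient rings -/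
theorem exists_tfun_quot {B : Type u} [CommRing B] (P : ChainComplex (ModuleCat.{u} B) ℤ) (J : Ideal B) (p : ℤ) :
    ∃ e : CohIII.T P p (ModuleCat.of B (B ⧸ J)) ≃+ (CohIII.bcCx (Ideal.Quotient.mk J) P).homology p,
      ∀ (b : B) w, e (b • w) = (Ideal.Quotient.mk J b) • e w := by
  let φ := Ideal.Quotient.mk J
  let C := ModuleCat.of (B ⧸ J) (B ⧸ J)
  obtain ⟨α⟩ := QCoh.nonempty_bcT_iso P φ p
  let R := ModuleCat.restrictScalars φ
  let i : ModuleCat.of B (B ⧸ J) ≅ R.obj C :=
    LinearEquiv.toModuleIso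
      (AddEquiv.toLinearEquiv (show (B ⧸ J) ≃+ (R.obj C : ModuleCat B) from AddEquiv.refl _)
        fun b x => by
          induction x using Quotient.inductionOn with
          | h y => rfl)
  let e₀ := ((CohIII.TFun P p).mapIso i).toLinearEquiv
  let e₁ : CohIII.T (CohIII.bcCx φ P) p C ≃+ CohIII.T P p (R.obj C) := (α.app C).addCommGroupIsoToAddEquiv
  let e₂ := ((HomologicalComplex.homologyFunctor _ _ p).mapIso (QCoh.tensorSelfIso (CohIII.bcCx φ P))).toLinearEquiv
  have h1 : ∀ (b : B) z, e₁ (φ b • z) = b • e₁ z := fun b z => by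
    show (α.app C).hom (φ b • z : CohIII.T (CohIII.bcCx φ P) p C) =
      b • (show CohIII.T P p (R.obj C) from (α.app C).hom z)
    rw [← tfun_map_smul (P := CohIII.bcCx φ P) p C (φ b) z, ← tfun_map_smul (P := P) p (R.obj C) b]
    exact ConcreteCategory.congr_hom (α.hom.naturality (ModuleCat.ofHom (φ b • LinearMap.id : C →ₗ[B ⧸ J] C))) z
  refine ⟨e₀.toAddEquiv.trans (e₁.symm.trans e₂.toAddEquiv), fun b w => ?_⟩
  show e₂ (e₁.symm (e₀ (b • w))) = φ b • e₂ (e₁.symm (e₀ w))
  rw [map_smul, ← map_smul e₂]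
  refine congrArg e₂ (e₁.injective ?_)
  rw [h1, e₁.apply_symm_apply, e₁.apply_symm_apply]

theorem secModule_top_smul {Y : Scheme.{u}} {A : Type u} [CommRing A] (ρ : A →+* Coh.Γtop Y) (N : Y.Modules) (a : A)
    (x : Γ(N, ⊤)) :
    letI := secModule ρ N ⊤
    a • x = (show Γ(Y, ⊤) from ρ a) • x :=
  congrArg (fun c : Γ(Y, ⊤) => c • x) (show (Y.presheaf.map (homOfLE (le_top : (⊤ : Y.Opens) ≤ ⊤)).op).hom _ = _ from
    congr($(Y.presheaf.map_id (op ⊤)) (show Γ(Y, ⊤) from ρ a)))

/-- sections over Artinian neighbourhoods from a model over the base -/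
theorem exists_sections {R : Type u} [CommRing R] {U : Scheme.{u}} [U.Over (Spec (CommRingCat.of R))]
    (M' : U.Modules) {P : ChainComplex (ModuleCat.{u} R) ℤ} (hP : IsBCModel M' P) {B : Type u} [CommRing B]
    [Algebra R B] (J : Ideal B) {X' : Scheme.{u}} (N : X'.Modules) (g' : X' ⟶ U)
    (pB : X' ⟶ Spec (CommRingCat.of (B ⧸ J)))
    (hsq : IsPullback g' pB (U ↘ Spec (CommRingCat.of R))
      (Spec.map (CommRingCat.ofHom ((Ideal.Quotient.mk J).comp (algebraMap R B)))))
    (eF : (Scheme.Modules.pullback g').obj M' ≅ N) :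
    ∃ e : CohIII.T (CohIII.bcCx (algebraMap R B) P) 0 (ModuleCat.of B (B ⧸ J)) ≃+ Γ(N, ⊤),
      ∀ b w, e (b • w) = (show Γ(X', ⊤) from Coh.toGlobal pB (Ideal.Quotient.mk J b)) • e w := by
  obtain ⟨e₂⟩ := hP.2.2.2.2.2 _ ((Ideal.Quotient.mk J).comp (algebraMap R B)) X' g' pB hsq 0
  let ρ := Coh.toGlobal pB
  letI := modHH ρ ((Scheme.Modules.pullback g').obj M') 0
  letI := modHH ρ N 0
  letI := secModule ρ N ⊤
  obtain ⟨e₃, he₃⟩ := exists_tfun_quot (CohIII.bcCx (algebraMap R B) P) J 0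
  let e₄ := ((HomologicalComplex.homologyFunctor _ _ (0 : ℤ)).mapIso
    (bcCxComp (algebraMap R B) (Ideal.Quotient.mk J) P)).toLinearEquiv
  let e₅ := e₄.symm.trans (e₂.symm.trans ((HHcongr ρ eF 0).trans (secH ρ N).symm))
  refine ⟨e₃.trans e₅.toAddEquiv, fun b w => ?_⟩
  show e₅ (e₃ (b • w)) = _
  rw [he₃, map_smul]
  exact secModule_top_smul ρ N _ _

variable {X S : Scheme.{u}} {f : X ⟶ S} {M : X.Modules}

/-- The model knows the sections over Artinian neighbourhoods of a point. -/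
theorem exists_model [IsProper f] [IsLocallyNoetherian S] [HasInjectiveResolutions X.Modules]
    (hM : Coh.IsCoh M) (hfl : FlatMod.IsFlatOver f M) {V : S.Opens} (hV : IsAffineOpen V) {y : S} (hy : y ∈ V) :
    ∃ P : ChainComplex (ModuleCat.{u} Γ(S, V)) ℤ, QCoh.IsLocalModel f M hV P ∧
      ∀ (J : Ideal (Localization.AtPrime (hV.primeIdealOf ⟨y, hy⟩).asIdeal)) (X' : Scheme.{u}) (g : X' ⟶ X)
        (pB : X' ⟶ Spec (CommRingCat.of (_ ⧸ J))),
        IsPullback g pB f (Spec.map (CommRingCat.ofHom ((Ideal.Quotient.mk J).comp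
          (algebraMap Γ(S, V) (Localization.AtPrime (hV.primeIdealOf ⟨y, hy⟩).asIdeal)))) ≫ hV.fromSpec) →
        ∃ e : CohIII.T (QCoh.locCx P (hV.primeIdealOf ⟨y, hy⟩)) 0 (ModuleCat.of _ (_ ⧸ J)) ≃+
            Γ((Scheme.Modules.pullback g).obj M, ⊤),
          ∀ b w, e (b • w) = (show Γ(X', ⊤) from Coh.toGlobal pB (Ideal.Quotient.mk J b)) • e w := by
  let U : X.Opens := f ⁻¹ᵁ V
  letI : (U : Scheme.{u}).Over (Spec (CommRingCat.of Γ(S, V))) := ⟨overSpec f hV⟩
  haveI : IsProper ((U : Scheme.{u}) ↘ Spec (CommRingCat.of Γ(S, V))) := by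
    show IsProper ((f ∣_ V) ≫ hV.isoSpec.hom)
    infer_instance
  haveI : IsNoetherianRing Γ(S, V) := IsLocallyNoetherian.component_noetherian ⟨V, hV⟩
  let M' := M.restrict U.ι
  have hpb := isPullback_overSpec (f := f) hV
  let eR : (Scheme.Modules.pullback U.ι).obj M ≅ M' :=
    ((Scheme.Modules.restrictFunctorIsoPullback U.ι).app M).symm
  have hfl' : FlatMod.IsFlatOver ((U : Scheme.{u}) ↘ Spec (CommRingCat.of Γ(S, V))) M' :=
    isFlatOver_of_iso (f := overSpec f hV) eR (isQCoh_pullback _ hM.1)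
      fun x => MorLib.FlatBC.isFlatOverAt_baseChange f (overSpec f hV) U.ι hV.fromSpec hpb M x (hfl _)
  obtain ⟨P, hP⟩ := exists_isBCModel M' (isCoh_restrict_open hM) hfl'
  refine ⟨P, ⟨hP.1, hP.2.1, hP.2.2.1, hP.2.2.2.1, fun p => ?_, fun p y' hy' => ?_⟩, fun J X' g pB hbig => ?_⟩
  · obtain ⟨e₁⟩ := nonempty_sections_HH (f := f) hM.1 hV p
    rw [← toGlobal_overSpec f hV] at e₁
    obtain ⟨e₂⟩ := hP.2.2.2.2.2 Γ(S, V) (RingHom.id _) (U : Scheme.{u}) (𝟙 _) (overSpec f hV)
      (by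
        rw [show CommRingCat.ofHom (RingHom.id Γ(S, V)) = 𝟙 _ from rfl, Spec.map_id]
        exact IsPullback.of_horiz_isIso ⟨by simp; rfl⟩) p
    let eid : CohIII.bcCx (RingHom.id Γ(S, V)) P ≅ P :=
      HomologicalComplex.Hom.isoOfComponents (fun n => (ModuleCat.extendScalarsId Γ(S, V)).app (P.X n))
        fun a b _ => ((ModuleCat.extendScalarsId Γ(S, V)).hom.naturality (P.d a b)).symm
    exact ⟨e₁.trans (((HHcongr (Coh.toGlobal (overSpec f hV)) ((Scheme.Modules.pullbackId _).app M') p).symm).trans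
      (e₂.trans ((HomologicalComplex.homologyFunctor _ _ (-(p : ℤ))).mapIso eid).toLinearEquiv))⟩
  · let φ := evalV y' hy'
    have hφ : Spec.map (CommRingCat.ofHom φ) ≫ hV.fromSpec = S.fromSpecResidueField y' := by
      show Spec.map (S.presheaf.germ V y' hy' ≫ S.residue y') ≫ _ = _
      rw [Spec.map_comp, Category.assoc, Scheme.fromSpecResidueField]
      exact congrArg (Spec.map (S.residue y') ≫ ·) (hV.fromSpecStalk_eq_fromSpecStalk hy')
    have hb : IsPullback (f.fiberι y') (f.fiberToSpecResidueField y') f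
        (Spec.map (CommRingCat.ofHom φ) ≫ hV.fromSpec) := by
      rw [hφ]; exact IsPullback.of_hasPullback _ _
    let g' : f.fiber y' ⟶ (U : Scheme.{u}) :=
      hpb.lift (f.fiberι y') (f.fiberToSpecResidueField y' ≫ Spec.map (CommRingCat.ofHom φ))
        (by rw [Category.assoc]; exact hb.w)
    have hg : g' ≫ U.ι = f.fiberι y' := hpb.lift_fst _ _ _
    have hsq : IsPullback g' (f.fiberToSpecResidueField y') (overSpec f hV) (Spec.map (CommRingCat.ofHom φ)) :=
      IsPullback.of_right (by rw [hg]; exact hb) (hpb.lift_snd _ _ _) hpb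
    obtain ⟨e₂⟩ := hP.2.2.2.2.2 (S.residueField y') φ (f.fiber y') g' (f.fiberToSpecResidueField y') hsq p
    let eF : (Scheme.Modules.pullback g').obj M' ≅ CohIII.fiberMod f M y' :=
      (Scheme.Modules.pullback g').mapIso eR.symm ≪≫ (Scheme.Modules.pullbackComp g' U.ι).app M ≪≫
        (Scheme.Modules.pullbackCongr hg).app M
    let e : CohIII.fiberH f M y' p ≃ₗ[S.residueField y'] ((CohIII.bcCx φ P).homology (-(p : ℤ))) :=
      (HHcongr (A := S.residueField y')
        (Coh.toGlobal (A := S.residueField y') (f.fiberToSpecResidueField y')) eF p).symm.trans e₂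
    haveI := finite_homology_bc φ P hP.1 (-(p : ℤ))
    exact ⟨(LinearEquiv.finrank_eq e).trans (finrank_bc_eq_dRank φ P _ (ker_evalV hV hy') _),
      Module.Finite.equiv e.symm⟩
  · let g' : X' ⟶ (U : Scheme.{u}) :=
      hpb.lift g (pB ≫ Spec.map (CommRingCat.ofHom ((Ideal.Quotient.mk J).comp
        (algebraMap Γ(S, V) (Localization.AtPrime (hV.primeIdealOf ⟨y, hy⟩).asIdeal)))))
        (by rw [Category.assoc]; exact hbig.w)
    have hg : g' ≫ U.ι = g := hpb.lift_fst _ _ _
    exact exists_sections M' hP J ((Scheme.Modules.pullback g).obj M) g' pB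
      (IsPullback.of_right (by rw [hg]; exact hbig) (hpb.lift_snd _ _ _) hpb)
      ((Scheme.Modules.pullback g').mapIso eR.symm ≪≫ (Scheme.Modules.pullbackComp g' U.ι).app M ≪≫
        (Scheme.Modules.pullbackCongr hg).app M)

end Groth.Agent.AVPoinc

end
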