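import Groth.Agent.AVPoinc.OffUnit
import Groth.Agent.AVPoinc.Algebra
import Groth.Agent.AVPoinc.Model
import Groth.Agent.AVPoinc.Infinitesimal
import Groth.Agent.AVEuler.RpushLow
import Groth.Agent.GrpSchLib.FieldDim
import Groth.Agent.AmpleVan.Vanish

/-!
# The Poincaré bundle at the unit of the dual

The stalk at the unit of the top higher direct image is the residue field.
-/

noncomputable section

set_option autoImplicit false
set_option backward.isDefEq.respectTransparency false
set_option backward.isDefEq.respectTransparency.types false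
set_option linter.style.haveILetI false
set_option maxHeartbeats 1000000

universe u

open CategoryTheory CategoryTheory.Limits MonoidalCategory CartesianMonoidalCategory MonObj AlgebraicGeometry TopologicalSpace

attribute [-instance] CategoryTheory.catToReflQuiver

namespace Groth.Agent.AVPoinc

open Groth.Agent.H23 Groth.Agent.H23.TrivBasic Groth.Agent.AbDualBase
open scoped Groth.Agent.H23.PicMul CategoryTheory.Obj

variable {k : Type u} [Field k] {A At : Over (Spec (CommRingCat.of k))}

/-- the point of the unit -/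
abbrev unitPt [GrpObj At] : At.left := η[At].left (IsLocalRing.closedPoint k)

theorem isClosedImmersion_unit [GrpObj At] [IsProper At.hom] : IsClosedImmersion η[At].left := by
  haveI : IsClosedImmersion (η[At].left ≫ At.hom) := by
    rw [Over.w]
    exact inferInstanceAs (IsClosedImmersion (𝟙 (Spec (CommRingCat.of k))))
  haveI : IsSeparated At.hom := inferInstance
  exact IsClosedImmersion.of_comp η[At].left At.hom

/-- a point with values in a field at the unit is the unit -/
theorem eq_one_of_range [GrpObj At] [IsProper At.hom] {K : Type u} [Field K]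
    {σ : Spec (CommRingCat.of K) ⟶ Spec (CommRingCat.of k)} (w : Over.mk σ ⟶ At)
    (hw : w.left (IsLocalRing.closedPoint K) = unitPt (At := At)) : w = 1 := by
  haveI := isClosedImmersion_unit (At := At)
  haveI : Subsingleton (Spec (CommRingCat.of K)) := inferInstanceAs (Subsingleton (PrimeSpectrum K))
  let p₁ := pullback.fst η[At].left w.left
  let p₂ : pullback η[At].left w.left ⟶ Spec (CommRingCat.of K) := pullback.snd η[At].left w.left
  haveI : IsClosedImmersion p₂ := MorphismProperty.pullback_snd _ _ ‹_›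
  haveI : Surjective p₂ := ⟨fun z => by
    obtain ⟨a, -, ha⟩ := Scheme.Pullback.exists_preimage_pullback (f := η[At].left) (g := w.left)
      (IsLocalRing.closedPoint k) (IsLocalRing.closedPoint K) hw.symm
    exact ⟨a, Subsingleton.elim _ _⟩⟩
  haveI : IsReduced (Spec (CommRingCat.of K)) := inferInstance
  haveI := isIso_of_isClosedImmersion_of_surjective p₂
  rw [Hom.one_def]
  refine Over.OverMorphism.ext ?_
  show w.left = σ ≫ η[At].left
  have h1 : p₁ = p₂ ≫ σ := by
    have h := congrArg (· ≫ At.hom) (pullback.condition (f := η[At].left) (g := w.left))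
    simp only [Category.assoc] at h
    rw [Over.w η[At], Over.w w] at h
    exact (Category.comp_id _).symm.trans h
  rw [← cancel_epi p₂, ← Category.assoc, ← h1]
  exact pullback.condition.symm

variable [GrpObj A] [IsProper A.hom] [Smooth A.hom] [GeometricallyConnected A.hom]
  [GrpObj At] [IsProper At.hom] [Smooth At.hom] [GeometricallyConnected At.hom]
  {φ : ∀ T : Over (Spec (CommRingCat.of k)), PicF.Cl (PicF.XT A.hom T) → (T ⟶ At)}
  (hφ : AbDual.IsDualAV Scheme.fppfPrecoverage A At φ) {P : (pullback A.hom At.hom).Modules}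
  (hP : PicF.IsInvertible P) (hξ : AbDual.IsPoincareCl A At φ (PicF.cl P))
include hφ hξ

omit [IsProper At.hom] [GeometricallyConnected At.hom] in
/-- the Poincaré bundle is trivial over the unit -/
theorem triv_one [LocallyOfFiniteType At.hom] (T : Over (Spec (CommRingCat.of k))) :
    Triv ((Scheme.Modules.pullback (PicF.XTmap A.hom (1 : T ⟶ At))).obj P) := by
  haveI : GeometricallyIntegral A.hom := AVDual.geometricallyIntegral_of_smooth A
  obtain ⟨-, h2⟩ := AVDual.poincare_axes hφ hξ
  refine (PicGrp.cl_eq_cl_iff _ _).1 ?_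
  show PicF.pullCl (A ◁ (1 : T ⟶ At)).left (PicF.cl P : PicF.Cl (A ⊗ At).left) = _
  rw [show A ◁ (1 : T ⟶ At) = fst A T ≫ lift (𝟙 A) (1 : A ⟶ At) from CartesianMonoidalCategory.hom_ext _ _
    (by rw [Category.assoc, lift_fst, Category.comp_id, whiskerLeft_fst])
    (by rw [Category.assoc, lift_snd, whiskerLeft_snd, MonObj.comp_one, MonObj.comp_one]), Over.comp_left,
    ← PicClLib.pullCl_comp]
  exact (congrArg (PicF.pullCl (fst A T).left) h2).trans (pullCl_one' _)

include hP
variable [HasInjectiveResolutions (pullback A.hom At.hom).Modules]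

omit hφ hξ [HasInjectiveResolutions (pullback A.hom At.hom).Modules] in
/-- sections over infinitesimal neighbourhoods of the unit -/
theorem sections_quot_of (h1 : ∀ T : Over (Spec (CommRingCat.of k)),
      Triv ((Scheme.Modules.pullback (PicF.XTmap A.hom (1 : T ⟶ At))).obj P))
    (he : ∀ {T : Over (Spec (CommRingCat.of k))} (v : T ⟶ At),
      Triv ((Scheme.Modules.pullback (PicF.XTmap A.hom v)).obj P) → v = 1) {V : At.left.Opens} (hV : IsAffineOpen V) (hy : unitPt ∈ V)
    (J : Ideal (Localization.AtPrime (hV.primeIdealOf ⟨unitPt, hy⟩).asIdeal))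
    (hsqJ : IsLocalRing.maximalIdeal _ ^ 2 ≤ J) (hJ : J ≤ IsLocalRing.maximalIdeal _) :
    ∃ (X' : Scheme.{u}) (g : X' ⟶ pullback A.hom At.hom) (pB : X' ⟶ Spec (CommRingCat.of (_ ⧸ J))),
      IsPullback g pB (pullback.snd A.hom At.hom) (Spec.map (CommRingCat.ofHom ((Ideal.Quotient.mk J).comp
          (algebraMap Γ(At.left, V) (Localization.AtPrime (hV.primeIdealOf ⟨unitPt, hy⟩).asIdeal)))) ≫ hV.fromSpec) ∧
      (J ≠ IsLocalRing.maximalIdeal _ → ∀ (s : Γ((Scheme.Modules.pullback g).obj P, ⊤)),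
        ∀ t ∈ IsLocalRing.maximalIdeal _, (show Γ(X', ⊤) from Coh.toGlobal pB (Ideal.Quotient.mk J t)) • s = 0) ∧
      (J = IsLocalRing.maximalIdeal _ → ∃ s₀ : Γ((Scheme.Modules.pullback g).obj P, ⊤), s₀ ≠ 0 ∧
        ∀ s, ∃ b, s = (show Γ(X', ⊤) from Coh.toGlobal pB (Ideal.Quotient.mk J b)) • s₀) := by
  haveI : IsLocallyNoetherian At.left := LocallyOfFiniteType.isLocallyNoetherian At.hom
  haveI : IsNoetherianRing Γ(At.left, V) := IsLocallyNoetherian.component_noetherian ⟨V, hV⟩
  have triv1 := h1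
  haveI : GeometricallyIntegral A.hom := AVDual.geometricallyIntegral_of_smooth A
  let x := hV.primeIdealOf ⟨unitPt, hy⟩
  let B := Localization.AtPrime x.asIdeal
  haveI : Nontrivial (B ⧸ J) := Ideal.Quotient.nontrivial_iff.2 fun e =>
    (IsLocalRing.maximalIdeal.isMaximal B).ne_top (top_le_iff.1 (e ▸ hJ))
  haveI : IsLocalRing (B ⧸ J) := IsLocalRing.of_surjective' (Ideal.Quotient.mk J) Ideal.Quotient.mk_surjective
  let φR : Γ(At.left, V) →+* B ⧸ J := (Ideal.Quotient.mk J).comp (algebraMap Γ(At.left, V) B)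
  let sC : Spec (CommRingCat.of (B ⧸ J)) ⟶ At.left := Spec.map (CommRingCat.ofHom φR) ≫ hV.fromSpec
  let T : Over (Spec (CommRingCat.of k)) := Over.mk (sC ≫ At.hom)
  let v : T ⟶ At := Over.homMk sC rfl
  let X' := pullback A.hom T.hom
  let g : X' ⟶ pullback A.hom At.hom := PicF.XTmap A.hom v
  let pB : X' ⟶ Spec (CommRingCat.of (B ⧸ J)) := pullback.snd A.hom T.hom
  have hsq : IsPullback g pB (pullback.snd A.hom At.hom) sC := isPullback_xtMap v
  have hmax : ∀ b ∈ IsLocalRing.maximalIdeal B, Ideal.Quotient.mk J b ∈ IsLocalRing.maximalIdeal (B ⧸ J) := fun b hb => by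
    rw [IsLocalRing.mem_maximalIdeal, mem_nonunits_iff]
    intro hu
    obtain ⟨c, hc⟩ := hu.exists_left_inv
    obtain ⟨c, rfl⟩ := Ideal.Quotient.mk_surjective c
    rw [← map_mul, ← map_one (Ideal.Quotient.mk J), Ideal.Quotient.eq] at hc
    have h1 := sub_mem (Ideal.mul_mem_left _ c hb) (hJ hc)
    rw [sub_sub_cancel] at h1
    exact (IsLocalRing.maximalIdeal.isMaximal B).ne_top (Ideal.eq_top_of_isUnit_mem _ h1 isUnit_one)
  have hpt : ∀ z : Spec (CommRingCat.of (B ⧸ J)), z = IsLocalRing.closedPoint (B ⧸ J) →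
      sC z = unitPt (At := At) := by
    rintro _ rfl
    have h1 : Spec.map (CommRingCat.ofHom φR) (IsLocalRing.closedPoint (B ⧸ J)) = x := by
      refine PrimeSpectrum.ext (Ideal.ext fun a => ?_)
      show φR a ∈ IsLocalRing.maximalIdeal (B ⧸ J) ↔ a ∈ x.asIdeal
      rw [← IsLocalization.AtPrime.to_map_mem_maximal_iff B x.asIdeal a]
      refine ⟨fun h => ?_, hmax _⟩
      by_contra hu
      exact (IsLocalRing.mem_maximalIdeal _).1 h ((IsLocalRing.notMem_maximalIdeal.1 hu).map (Ideal.Quotient.mk J))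
    show hV.fromSpec (Spec.map (CommRingCat.ofHom φR) (IsLocalRing.closedPoint (B ⧸ J))) = unitPt
    rw [h1]
    exact hV.fromSpec_primeIdealOf ⟨_, hy⟩
  refine ⟨X', g, pB, hsq, fun hne s t ht => ?_, fun heq => ?_⟩
  · by_contra hs
    letI : X'.Over (Spec (CommRingCat.of (B ⧸ J))) := ⟨pB⟩
    haveI : IsProper (X' ↘ Spec (CommRingCat.of (B ⧸ J))) := inferInstanceAs (IsProper (pullback.snd A.hom T.hom))
    haveI : Flat (X' ↘ Spec (CommRingCat.of (B ⧸ J))) := inferInstanceAs (Flat (pullback.snd A.hom T.hom))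
    haveI : GeometricallyIntegral (X' ↘ Spec (CommRingCat.of (B ⧸ J))) :=
      inferInstanceAs (GeometricallyIntegral (pullback.snd A.hom T.hom))
    let xC : PrimeSpectrum (B ⧸ J) := IsLocalRing.closedPoint (B ⧸ J)
    have hsqC : ∀ a ∈ IsLocalRing.maximalIdeal (B ⧸ J), ∀ b ∈ IsLocalRing.maximalIdeal (B ⧸ J), a * b = 0 := by
      intro a ha b hb
      obtain ⟨a, rfl⟩ := Ideal.Quotient.mk_surjective a
      obtain ⟨b, rfl⟩ := Ideal.Quotient.mk_surjective b
      rw [← map_mul, Ideal.Quotient.eq_zero_iff_mem]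
      have hm : ∀ c : B, Ideal.Quotient.mk J c ∈ IsLocalRing.maximalIdeal (B ⧸ J) → c ∈ IsLocalRing.maximalIdeal B :=
        fun c hc => by
          by_contra hu
          exact (IsLocalRing.mem_maximalIdeal _).1 hc ((IsLocalRing.notMem_maximalIdeal.1 hu).map (Ideal.Quotient.mk J))
      exact hsqJ (by rw [pow_two]; exact Ideal.mul_mem_mul (hm a ha) (hm b hb))
    have hT : Seesaw.FibreTriv (A := B ⧸ J) ((Scheme.Modules.pullback g).obj P) xC := by
      let κ := xC.asIdeal.ResidueField
      let σ₀ := Seesaw.specAlg (B ⧸ J) κ ≫ T.hom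
      let w : Over.mk σ₀ ⟶ T := Over.homMk (Seesaw.specAlg (B ⧸ J) κ) rfl
      have hw : w ≫ v = 1 := eq_one_of_range _ (hpt _ (Seesaw.range_specAlg xC _))
      refine (triv_comp_iff _ _).2 ?_
      have h1 := isPullback_xtMap (A := A) (At := T) w
      refine SeesawGlobal.triv_of_factor (h1.lift (pullback.fst pB (Seesaw.specAlg (B ⧸ J) κ))
        (pullback.snd pB (Seesaw.specAlg (B ⧸ J) κ)) pullback.condition) ?_ (triv1 (Over.mk σ₀))
      rw [← hw, PicClLib.XTmap_comp, ← Category.assoc, h1.lift_fst]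
      rfl
    have htriv : Triv ((Scheme.Modules.pullback g).obj P) :=
      triv_of_smul_ne_zero (PicClLib.isInvertible_pullback _ hP) (Rigid.bijective_appTop _) hT hsqC s (hmax t ht) hs
    have hv : v = 1 := he v htriv
    refine hne (le_antisymm hJ ?_)
    rw [← IsLocalization.AtPrime.map_eq_maximalIdeal x.asIdeal B, Ideal.map_le_iff_le_comap]
    intro a ha
    rw [Ideal.mem_comap, ← Ideal.Quotient.eq_zero_iff_mem]
    show φR a = 0
    let σC : Spec (CommRingCat.of (B ⧸ J)) ⟶ Spec (CommRingCat.of k) := T.hom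
    let η' : Spec (CommRingCat.of k) ⟶ Spec Γ(At.left, V) := IsOpenImmersion.lift hV.fromSpec η[At].left (by
      rintro _ ⟨z, rfl⟩
      rw [hV.range_fromSpec]
      haveI : Subsingleton (Spec (CommRingCat.of k)) := inferInstanceAs (Subsingleton (PrimeSpectrum k))
      rw [Subsingleton.elim z (IsLocalRing.closedPoint k)]
      exact hy)
    have hη' : η' ≫ hV.fromSpec = η[At].left := IsOpenImmersion.lift_fac _ _ _
    have h2 : Spec.map (CommRingCat.ofHom φR) = σC ≫ η' := by
      rw [← cancel_mono hV.fromSpec, Category.assoc, hη']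
      exact (congrArg CommaMorphism.left hv).trans (by rw [Hom.one_def]; rfl)
    obtain ⟨α, hα⟩ := Spec.map_surjective σC
    obtain ⟨ε, hε⟩ := Spec.map_surjective η'
    rw [← hα, ← hε, ← Spec.map_comp] at h2
    have h3 : φR a = α.hom (ε.hom a) := congr($(Spec.map_injective h2) a)
    rw [h3]
    suffices ε.hom a = 0 by rw [this, map_zero]
    have hx : Spec.map ε (IsLocalRing.closedPoint k) = x := by
      refine hV.fromSpec.isOpenEmbedding.injective ?_
      rw [hV.fromSpec_primeIdealOf ⟨_, hy⟩, hε, ← Scheme.Hom.comp_apply, hη']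
      rfl
    rw [← hx] at ha
    have h4 : (IsLocalRing.closedPoint k).asIdeal = ⊥ := IsLocalRing.maximalIdeal_eq_bot
    change ε.hom a ∈ (IsLocalRing.closedPoint k).asIdeal at ha
    rwa [h4, Submodule.mem_bot] at ha
  · haveI hC : IsField (B ⧸ J) := Ideal.Quotient.maximal_ideal_iff_isField_quotient J |>.1
      (heq ▸ IsLocalRing.maximalIdeal.isMaximal B)
    letI := hC.toField
    have hv : v = 1 := eq_one_of_range (K := B ⧸ J) v (hpt _ rfl)
    have htriv : Triv ((Scheme.Modules.pullback g).obj P) := by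
      show Triv ((Scheme.Modules.pullback (PicF.XTmap A.hom v)).obj P)
      rw [hv]
      exact triv1 T
    obtain ⟨s₀, hs₀⟩ := htriv.exists_frame
    have hbij : Function.Bijective pB.appTop := by
      haveI : IsProper pB := inferInstanceAs (IsProper (pullback.snd A.hom T.hom))
      haveI : GeometricallyIntegral pB := inferInstanceAs (GeometricallyIntegral (pullback.snd A.hom T.hom))
      exact Rigid.bijective_appTop (k := B ⧸ J) pB
    have hgl : Function.Bijective (Coh.toGlobal pB) := Seesaw.toGlobal_bijective pB hbij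
    refine ⟨s₀, fun h0 => ?_, fun s => ?_⟩
    · haveI := (Seesaw.isField_Γ pB hbij).toField.toNontrivial
      exact zero_ne_one (hs₀.coord_unique le_rfl (r := 0) (r' := 1) (by simp [h0]))
    · obtain ⟨r, hr⟩ := hs₀.exists_coord le_rfl s
      obtain ⟨c, hc⟩ := hgl.2 r
      obtain ⟨b, rfl⟩ := Ideal.Quotient.mk_surjective c
      refine ⟨b, ?_⟩
      rw [hr, AModX.res_self, ← hc]

omit [HasInjectiveResolutions (pullback A.hom At.hom).Modules] in
/-- sections over infinitesimal neighbourhoods of the unit -/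
theorem sections_quot {V : At.left.Opens} (hV : IsAffineOpen V) (hy : unitPt ∈ V)
    (J : Ideal (Localization.AtPrime (hV.primeIdealOf ⟨unitPt, hy⟩).asIdeal))
    (hsqJ : IsLocalRing.maximalIdeal _ ^ 2 ≤ J) (hJ : J ≤ IsLocalRing.maximalIdeal _) :
    ∃ (X' : Scheme.{u}) (g : X' ⟶ pullback A.hom At.hom) (pB : X' ⟶ Spec (CommRingCat.of (_ ⧸ J))),
      IsPullback g pB (pullback.snd A.hom At.hom) (Spec.map (CommRingCat.ofHom ((Ideal.Quotient.mk J).comp
          (algebraMap Γ(At.left, V) (Localization.AtPrime (hV.primeIdealOf ⟨unitPt, hy⟩).asIdeal)))) ≫ hV.fromSpec) ∧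
      (J ≠ IsLocalRing.maximalIdeal _ → ∀ (s : Γ((Scheme.Modules.pullback g).obj P, ⊤)),
        ∀ t ∈ IsLocalRing.maximalIdeal _, (show Γ(X', ⊤) from Coh.toGlobal pB (Ideal.Quotient.mk J t)) • s = 0) ∧
      (J = IsLocalRing.maximalIdeal _ → ∃ s₀ : Γ((Scheme.Modules.pullback g).obj P, ⊤), s₀ ≠ 0 ∧
        ∀ s, ∃ b, s = (show Γ(X', ⊤) from Coh.toGlobal pB (Ideal.Quotient.mk J b)) • s₀) :=
  sections_quot_of hP (fun T => triv_one hφ hξ T) (fun v h => eq_one_of_triv hφ hξ v h) hV hy J hsqJ hJ

end Groth.Agent.AVPoinc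

end
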