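import Groth.Agent.H23.Frame
import Groth.Agent.PicClLib.Basic
import Groth.Agent.AModX.Res
import Groth.Agent.Lib.TopDiff
import Groth.Prelude.Def_ExtPow2
import Groth.Agent.Lib.CurveDualPrep
import Mathlib.LinearAlgebra.ExteriorPower.Basis

/-!
# Exterior powers of free modules and their cohomology
-/

noncomputable section

set_option autoImplicit false
set_option backward.isDefEq.respectTransparency false
set_option backward.isDefEq.respectTransparency.types false
set_option linter.style.haveILetI false
set_option linter.unusedSectionVars false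
set_option maxHeartbeats 1000000

universe u

open CategoryTheory CategoryTheory.Limits AlgebraicGeometry TopologicalSpace Opposite

namespace Groth.Agent.AVPoinc

open Groth.Agent.H23

variable {X : Scheme.{u}}

/-- global sections restricting to bases give a trivialisation -/
theorem nonempty_iso_freeMod_of_bases {L : X.Modules} {n : ℕ} (t : Fin n → Γ(L, ⊤))
    (haff : ∀ W : X.Opens, IsAffineOpen W →
      Function.Bijective fun c : Fin n → Γ(X, W) => ∑ j, c j • AModX.res L (le_top : W ≤ ⊤) (t j)) :
    Nonempty (L ≅ FlatMod.freeMod X n) := by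
  let Φ : FlatMod.freeMod X n ⟶ L := Sigma.desc fun j => QCoh.homOfTop (P := L) (t j)
  haveI : IsIso Φ := QCoh.isIso_of_isBasis Φ X.isBasis_affineOpens fun W hW => by
    have h0 := (Frame.incl_isFrame (X := X) (n := n)) W le_top
    have key : (fun x => Φ.app W x) ∘ Frame.comb (FlatMod.freeMod X n)
        (fun j => (Frame.incl X n j).app ⊤ (Frame.one ⊤)) W le_top =
        fun c => ∑ j, c j • AModX.res L (le_top : W ≤ ⊤) (t j) := by
      funext c
      simp only [Function.comp, Frame.comb, map_sum]
      refine Finset.sum_congr rfl fun j _ => ?_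
      refine (Scheme.Modules.Hom.app_smul Φ (M := FlatMod.freeMod X n) _ _).trans ?_
      refine congrArg (c j • ·) ?_
      rw [Frame.app_one_res (Frame.incl X n j) (le_top : W ≤ ⊤)]
      show (Frame.incl X n j ≫ Φ).app W (Frame.one W) = _
      rw [Frame.incl, Sigma.ι_desc]
      exact (QCoh.homOfTop_app _ _).trans (one_smul Γ(X, W) _)
    exact (Function.Bijective.of_comp_iff _ h0).mp (key ▸ haff W hW)
  exact ⟨(asIso Φ).symm⟩

/-- a locally free module on a one point scheme is free -/
theorem nonempty_iso_freeMod_of_subsingleton [Subsingleton X] [Nonempty X] {L : X.Modules} {n : ℕ}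
    (hL : FlatMod.IsFinLocFreeOfRank n L) : Nonempty (L ≅ FlatMod.freeMod X n) := by
  obtain ⟨x⟩ := ‹Nonempty X›
  obtain ⟨U, hx, ⟨e⟩⟩ := hL x
  obtain rfl : U = ⊤ := top_le_iff.1 fun y _ => Subsingleton.elim x y ▸ hx
  obtain ⟨t, ht⟩ := Frame.exists_frame e
  exact nonempty_iso_freeMod_of_bases t fun W _ => ht W le_top

/-- the exterior power of a free module is free of binomial rank -/
theorem nonempty_iso_freeMod_of_isExtPow {E L : X.Modules} {m r : ℕ} (e : E ≅ FlatMod.freeMod X m)
    (hL : ExtPow.IsExtPow r E L) : Nonempty (L ≅ FlatMod.freeMod X (m.choose r)) := by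
  classical
  obtain ⟨φ, hφ⟩ := hL
  let b : Fin m → Γ(E, ⊤) := fun i => e.inv.app ⊤ ((Frame.incl X m i).app ⊤ (Frame.one ⊤))
  have hb : ∀ W : X.Opens,
      Function.Bijective fun c : Fin m → Γ(X, W) => ∑ i, c i • AModX.res E (le_top : W ≤ ⊤) (b i) := by
    intro W
    have h0 := (Frame.incl_isFrame (X := X) (n := m)) W le_top
    have hi : Function.Bijective (e.inv.app W) := ConcreteCategory.bijective_of_isIso (e.inv.app W)
    have key : (fun c : Fin m → Γ(X, W) => ∑ i, c i • AModX.res E (le_top : W ≤ ⊤) (b i)) =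
        (fun x => e.inv.app W x) ∘ Frame.comb (FlatMod.freeMod X m)
          (fun i => (Frame.incl X m i).app ⊤ (Frame.one ⊤)) W le_top := by
      funext c
      simp only [Function.comp, Frame.comb, map_sum]
      refine Finset.sum_congr rfl fun i _ => ?_
      refine Eq.trans ?_ ((Scheme.Modules.Hom.app_smul e.inv (M := FlatMod.freeMod X m) _ _).symm)
      refine congrArg (c i • ·) ?_
      exact (ConcreteCategory.congr_hom (e.inv.mapPresheaf.naturality (homOfLE (le_top : W ≤ ⊤)).op)
        ((Frame.incl X m i).app ⊤ (Frame.one ⊤))).symm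
    rw [key]
    exact hi.comp h0
  let I := Set.powersetCard (Fin m) r
  have hI : Fintype.card I = m.choose r := by
    rw [Fintype.card_eq_nat_card, Set.powersetCard.card, Nat.card_eq_fintype_card, Fintype.card_fin]
  let ec : Fin (m.choose r) ≃ I := (Fintype.equivFinOfCardEq hI).symm
  let emb : Fin (m.choose r) → Fin r → Fin m := fun j => Set.powersetCard.ofFinEmbEquiv.symm (ec j)
  -- the wedges glue
  have hloc : ∀ j, ∃ s : Γ(L, ⊤), ∀ U : X.affineOpens, AModX.res L (le_top : U.1 ≤ ⊤) s =
      (φ U).symm (exteriorPower.ιMulti _ r fun i => AModX.res E (le_top : U.1 ≤ ⊤) (b (emb j i))) := by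
    intro j
    let sf : ∀ U : X.affineOpens, Γ(L, U.1) := fun U =>
      (φ U).symm (exteriorPower.ιMulti _ r fun i => AModX.res E (le_top : U.1 ≤ ⊤) (b (emb j i)))
    obtain ⟨s, hs, -⟩ := AModX.existsUnique_glue (M := L) (V := ⊤) (fun U : X.affineOpens => U.1)
      (fun U => le_top) (fun p _ => by
        obtain ⟨_, ⟨U, hU, rfl⟩, hp, -⟩ :=
          X.isBasis_affineOpens.exists_subset_of_mem_open (Set.mem_univ p) isOpen_univ
        exact ⟨⟨U, hU⟩, hp⟩) sf fun U V => by
      refine AModX.eq_of_locally (M := L) _ _ fun p hp => ?_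
      obtain ⟨_, ⟨W, hW, rfl⟩, hpW, hWUV⟩ :=
        X.isBasis_affineOpens.exists_subset_of_mem_open (show p ∈ (U.1 ⊓ V.1 : X.Opens) from hp) (U.1 ⊓ V.1).2
      refine ⟨W, hWUV, hpW, ?_⟩
      rw [AModX.res_res, AModX.res_res]
      refine (hφ U ⟨W, hW⟩ (le_trans hWUV inf_le_left) _).trans (Eq.trans ?_
        (hφ V ⟨W, hW⟩ (le_trans hWUV inf_le_right) _).symm)
      refine congrArg _ (congrArg _ (funext fun i => ?_))
      show AModX.res E _ (AModX.res E _ _) = AModX.res E _ (AModX.res E _ _)
      rw [AModX.res_res, AModX.res_res]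
    exact ⟨s, hs⟩
  choose s hs using hloc
  have haff : ∀ (W : X.Opens), IsAffineOpen W →
      Function.Bijective fun c : Fin (m.choose r) → Γ(X, W) =>
        ∑ j, c j • AModX.res L (le_top : W ≤ ⊤) (s j) := by
    intro W hW
    obtain ⟨B, hB⟩ := TopDiff.basis_of_unique (R := Γ(X, W)) (fun i => AModX.res E (le_top : W ≤ ⊤) (b i)) (hb W)
    let BL := ((B.exteriorPower r).map (φ ⟨W, hW⟩).symm).reindex ec.symm
    have hBL : ∀ j, BL j = AModX.res L (le_top : W ≤ ⊤) (s j) := fun j => by
      rw [hs j ⟨W, hW⟩]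
      show ((B.exteriorPower r).map (φ ⟨W, hW⟩).symm).reindex ec.symm j = _
      rw [Module.Basis.reindex_apply, Equiv.symm_symm, Module.Basis.map_apply, exteriorPower.coe_basis]
      refine congrArg _ ?_
      show exteriorPower.ιMulti _ r (⇑B ∘ emb j) = _
      rw [hB]
      rfl
    have key2 : ∀ c : Fin (m.choose r) → Γ(X, W),
        ∑ j, c j • AModX.res L (le_top : W ≤ ⊤) (s j) = BL.equivFun.symm c := fun c => by
      rw [Module.Basis.equivFun_symm_apply]
      exact Finset.sum_congr rfl fun j _ => congrArg (c j • ·) (hBL j).symm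
    refine ⟨fun c c' h => BL.equivFun.symm.injective ((key2 c).symm.trans (h.trans (key2 c'))), fun x => ?_⟩
    obtain ⟨c, hc⟩ := BL.equivFun.symm.surjective x
    exact ⟨c, (key2 c).trans hc⟩
  exact nonempty_iso_freeMod_of_bases s haff

/-- pullbacks of free modules are free -/
theorem nonempty_pullback_freeMod {S : Scheme.{u}} (f : X ⟶ S) (n : ℕ) :
    Nonempty ((Scheme.Modules.pullback f).obj (FlatMod.freeMod S n) ≅ FlatMod.freeMod X n) := by
  obtain ⟨e⟩ := PicClLib.nonempty_pullback_structureModule f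
  haveI : (Scheme.Modules.pullback f).IsLeftAdjoint :=
    (Scheme.Modules.pullbackPushforwardAdjunction f).isLeftAdjoint
  exact ⟨PreservesCoproduct.iso (Scheme.Modules.pullback f) _ ≪≫ Sigma.mapIso fun _ => e⟩

open Groth.Agent.PnCoh.Finite (mapLin)

/-- the cohomology of a free module -/
theorem finrank_HH_freeMod (k : Type u) [Field k] [X.Over (Spec (CommRingCat.of k))] (m n : ℕ)
    [Module.Finite k (Coh.HH X (Coh.structureModule X) n)] :
    Module.finrank k (Coh.HH X (FlatMod.freeMod X m) n) = m * Module.finrank k (Coh.HH X (Coh.structureModule X) n) := by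
  classical
  let M := FlatMod.freeMod X m
  let O := Coh.structureModule X
  have hsum : ∀ (s : Finset (Fin m)) (f : Fin m → (M ⟶ M)) (x : Coh.HH X M n),
      mapLin k (∑ i ∈ s, f i) n x = ∑ i ∈ s, mapLin k (f i) n x := fun s f x => by
    let g : (M ⟶ M) →+ Coh.HH X M n :=
      AddMonoidHom.mk' (fun φ => mapLin k φ n x) fun φ ψ => CurveDuality.mapLin_add k φ ψ n x
    exact map_sum g f s
  have hcomp : ∀ {P Q S : X.Modules} (φ : P ⟶ Q) (ψ : Q ⟶ S) (x : Coh.HH X P n),
      mapLin k ψ n (mapLin k φ n x) = mapLin k (φ ≫ ψ) n x := fun φ ψ x =>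
    PnCoh.Finite.map_map (Y := X.toPresheafedSpace.carrier) ((QCoh.toAbFunctor X).map_comp _ _).symm n x
  let tm : Coh.HH X M n →ₗ[k] (Fin m → Coh.HH X O n) := LinearMap.pi fun i => mapLin k (Frame.proj X m i) n
  let inv : (Fin m → Coh.HH X O n) → Coh.HH X M n := fun y => ∑ i, mapLin k (Frame.incl X m i) n (y i)
  have hbij : Function.Bijective tm := by
    refine Function.bijective_iff_has_inverse.2 ⟨inv, fun x => ?_, fun y => funext fun j => ?_⟩
    · show ∑ i, mapLin k (Frame.incl X m i) n (mapLin k (Frame.proj X m i) n x) = x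
      simp only [hcomp]
      rw [← hsum, Frame.total, CurveDuality.mapLin_id]
    · show mapLin k (Frame.proj X m j) n (∑ i, mapLin k (Frame.incl X m i) n (y i)) = y j
      rw [map_sum, Finset.sum_eq_single j]
      · rw [hcomp, Frame.incl_proj, if_pos rfl, CurveDuality.mapLin_id]
      · intro i _ hi
        rw [hcomp, Frame.incl_proj, if_neg hi, CurveDuality.mapLin_zero]
      · exact fun h => absurd (Finset.mem_univ j) h
  rw [(LinearEquiv.ofBijective tm hbij).finrank_eq, Module.finrank_pi_fintype, Finset.sum_const, Finset.card_univ,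
    Fintype.card_fin, smul_eq_mul]

end Groth.Agent.AVPoinc

end
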