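import Groth.Agent.FlatCxLib.TFunctor
import Groth.Agent.QCoh.BcT
import Groth.Agent.AVPoinc.Algebra
import Mathlib.RingTheory.Length

/-!
# Complexes resolving the residue field

A bounded below complex of flat modules over a regular local ring whose only homology is the residue field computes
the Betti numbers of the residue field, the binomial coefficients.
-/

noncomputable section

set_option autoImplicit false
set_option backward.isDefEq.respectTransparency false
set_option linter.style.haveILetI false

universe u

open CategoryTheory CategoryTheory.Limits RingTheory.Sequence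
open scoped Pointwise

namespace Groth.Agent.AVPoinc

/-- binomial coefficients in an integer degree -/
def chZ (m : ℕ) (d : ℤ) : ℕ := if 0 ≤ d then Nat.choose m d.toNat else 0

theorem chZ_succ (m : ℕ) (d : ℤ) : chZ (m + 1) d = chZ m d + chZ m (d - 1) := by
  unfold chZ
  rcases lt_trichotomy d 0 with h | rfl | h
  · rw [if_neg (by omega), if_neg (by omega), if_neg (by omega)]
  · simp
  · obtain ⟨n, rfl⟩ : ∃ n : ℕ, d = n + 1 := ⟨(d - 1).toNat, by omega⟩
    rw [if_pos (by omega), if_pos (by omega), if_pos (by omega), show ((n : ℤ) + 1).toNat = n + 1 by omega,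
      show ((n : ℤ) + 1 - 1).toNat = n by omega, Nat.choose_succ_succ]
    exact add_comm _ _

theorem chZ_zero (d : ℤ) : chZ 0 d = if d = 0 then 1 else 0 := by
  unfold chZ
  rcases lt_trichotomy d 0 with h | rfl | h
  · rw [if_neg (by omega), if_neg (by omega)]
  · simp
  · obtain ⟨n, rfl⟩ : ∃ n : ℕ, d = n + 1 := ⟨(d - 1).toNat, by omega⟩
    rw [if_pos (by omega), if_neg (by omega), show ((n : ℤ) + 1).toNat = n + 1 by omega, Nat.choose_zero_succ]

variable {R : Type u} [CommRing R] (P : ChainComplex (ModuleCat.{u} R) ℤ)

/-- an element of `T` on a finite free module comes from coordinates -/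
theorem tfun_pi_induction (q : ℤ) (n : ℕ) (motive : CohIII.T P q (ModuleCat.of R (Fin n → R)) → Prop)
    (hadd : ∀ a b, motive a → motive b → motive (a + b)) (hzero : motive 0)
    (hsingle : ∀ (i : Fin n) v, motive ((CohIII.TFun P q).map (ModuleCat.ofHom (LinearMap.single R (fun _ => R) i)) v))
    (w : CohIII.T P q (ModuleCat.of R (Fin n → R))) : motive w := by
  have hid : 𝟙 (ModuleCat.of R (Fin n → R)) = ∑ i : Fin n,
      (ModuleCat.ofHom (LinearMap.proj (R := R) (φ := fun _ : Fin n => R) i) : ModuleCat.of R (Fin n → R) ⟶ ModuleCat.of R R) ≫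
        (ModuleCat.ofHom (LinearMap.single R (fun _ => R) i) : ModuleCat.of R R ⟶ ModuleCat.of R (Fin n → R)) := by
    refine ModuleCat.hom_ext (LinearMap.ext fun x => ?_)
    rw [ModuleCat.hom_sum, LinearMap.sum_apply]
    exact (Finset.univ_sum_single x).symm
  have h := congrArg (fun f => (CohIII.TFun P q).map f) hid
  simp only [CategoryTheory.Functor.map_id, Functor.map_sum, Functor.map_comp] at h
  have hw := congrArg (fun f => f.hom w) h
  simp only [ModuleCat.hom_sum, LinearMap.sum_apply] at hw
  rw [show w = _ from hw]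
  exact Finset.sum_induction _ motive hadd hzero fun i _ => hsingle i _

section

variable [IsNoetherianRing R]

/-- with one homology module killed by an ideal, all tensor products are killed by it -/
theorem killed (hP : ∀ i, Module.Flat R (P.X i)) {c p : ℤ} (hc : ∀ i, i < c → IsZero (P.X i))
    (h0 : ∀ q, q ≠ p → IsZero (P.homology q)) (I : Ideal R) (hk : ∀ t ∈ I, ∀ v : P.homology p, t • v = 0) :
    ∀ (q : ℤ) (N : Type u) [AddCommGroup N] [Module R N] [Module.Finite R N],
      (q < p → IsZero (CohIII.T P q (ModuleCat.of R N))) ∧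
        ∀ t ∈ I, ∀ w : CohIII.T P q (ModuleCat.of R N), t • w = 0 := by
  have hker : ∀ q, (∀ t ∈ I, ∀ v : CohIII.T P q (ModuleCat.of R R), t • v = 0) ∧
      (q ≠ p → IsZero (CohIII.T P q (ModuleCat.of R R))) := by
    intro q
    let e := ((HomologicalComplex.homologyFunctor _ _ q).mapIso (QCoh.tensorSelfIso P))
    have hzero : q ≠ p → IsZero (CohIII.T P q (ModuleCat.of R R)) := fun h => (h0 q h).of_iso e
    refine ⟨fun t ht v => ?_, hzero⟩
    by_cases h : q = p
    · subst h
      exact e.toLinearEquiv.injective (by rw [map_smul, hk t ht, map_zero])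
    · haveI := ModuleCat.subsingleton_of_isZero (hzero h)
      exact Subsingleton.elim _ _
  suffices H : ∀ (n : ℕ) (q : ℤ), q < c + n → ∀ (N : Type u) [AddCommGroup N] [Module R N] [Module.Finite R N],
      (q < p → IsZero (CohIII.T P q (ModuleCat.of R N))) ∧
        ∀ t ∈ I, ∀ w : CohIII.T P q (ModuleCat.of R N), t • w = 0 from
    fun q => H ((q + 1 - c).toNat) q (by omega)
  intro n
  induction n with
  | zero =>
    intro q hq N _ _ _
    have hz : IsZero (CohIII.T P q (ModuleCat.of R N)) :=
      ShortComplex.isZero_homology_of_isZero_X₂ _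
        ((MonoidalCategory.tensorRight (ModuleCat.of R N)).map_isZero (hc q (by omega)))
    haveI := ModuleCat.subsingleton_of_isZero hz
    exact ⟨fun _ => hz, fun t _ w => Subsingleton.elim _ _⟩
  | succ n ih =>
    intro q hq N _ _ _
    obtain ⟨m, π, hπ⟩ := Module.Finite.exists_fin' R N
    let S : ShortComplex (ModuleCat.{u} R) :=
      ShortComplex.mk (ModuleCat.ofHom (LinearMap.ker π).subtype) (ModuleCat.ofHom π)
        (ModuleCat.hom_ext (LinearMap.comp_ker_subtype π))
    have hS : S.ShortExact :=
      { exact := (ShortComplex.moduleCat_exact_iff _).2 fun x hx => ⟨⟨x, hx⟩, rfl⟩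
        mono_f := (ModuleCat.mono_iff_injective _).2 Subtype.val_injective
        epi_g := (ModuleCat.epi_iff_surjective _).2 hπ }
    have hC := FlatCxLib.shortExact_tensorSC (P := P) hP hS
    have hij : (ComplexShape.down ℤ).Rel q (q - 1) := sub_add_cancel q 1
    have hex := (ShortComplex.moduleCat_exact_iff _).1 (hC.homology_exact₃ q (q - 1) hij)
    have hFk : ∀ t ∈ I, ∀ v : CohIII.T P q (ModuleCat.of R (Fin m → R)), t • v = 0 := fun t ht v =>
      tfun_pi_induction P q m (fun v => t • v = 0)
        (fun a b ha hb => by rw [smul_add, ha, hb, add_zero]) (smul_zero t)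
        (fun i v => ((map_smul _ t v).symm.trans (congrArg _ ((hker q).1 t ht v))).trans (map_zero _)) v
    have hFz : q ≠ p → ∀ v : CohIII.T P q (ModuleCat.of R (Fin m → R)), v = 0 := fun h v =>
      tfun_pi_induction P q m (fun v => v = 0) (fun a b ha hb => by rw [ha, hb, add_zero]) rfl
        (fun i v => by
          haveI : Subsingleton ((CohIII.TFun P q).obj (ModuleCat.of R R)) :=
            ModuleCat.subsingleton_of_isZero ((hker q).2 h)
          exact (congrArg _ (Subsingleton.elim v 0)).trans (map_zero _)) v
    have hK := ih (q - 1) (by omega) (LinearMap.ker π)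
    have hinj : q ≠ p → ∀ w : CohIII.T P q (ModuleCat.of R N), (hC.δ q (q - 1) hij).hom w = 0 → w = 0 := by
      intro h w hw
      obtain ⟨v, rfl⟩ := hex w hw
      rw [hFz h v]
      exact map_zero _
    constructor
    · intro h
      have hK0 := ModuleCat.subsingleton_of_isZero (hK.1 (by omega))
      haveI : Subsingleton (CohIII.T P q (ModuleCat.of R N)) :=
        subsingleton_of_forall_eq 0 fun w => hinj h.ne w (@Subsingleton.elim _ hK0 _ _)
      exact ModuleCat.isZero_of_subsingleton _
    · intro t ht w
      by_cases h : q = p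
      · have hK0 := ModuleCat.subsingleton_of_isZero (hK.1 (by omega))
        obtain ⟨v, rfl⟩ := hex w (@Subsingleton.elim _ hK0 _ _)
        exact ((map_smul _ t v).symm.trans (congrArg _ (hFk t ht v))).trans (map_zero _)
      · exact hinj h _ (((hC.δ q (q - 1) hij).hom.map_smul t w).trans (hK.2 t ht _))

/-- lengths along a regular sequence -/
theorem length_iter (hP : ∀ i, Module.Flat R (P.X i)) {c p : ℤ} (hc : ∀ i, i < c → IsZero (P.X i))
    (h0 : ∀ q, q ≠ p → IsZero (P.homology q)) (I : Ideal R) (hk : ∀ t ∈ I, ∀ v : P.homology p, t • v = 0) :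
    ∀ (ys : List R) (N : Type u) [AddCommGroup N] [Module R N] [Module.Finite R N], (∀ y ∈ ys, y ∈ I) →
      IsWeaklyRegular N ys → ∀ m : ℕ, (∀ q, Module.length R (CohIII.T P q (ModuleCat.of R N)) = chZ m (q - p)) →
        ∀ q, Module.length R (CohIII.T P q (ModuleCat.of R (N ⧸ (Ideal.ofList ys • ⊤ : Submodule R N)))) =
          chZ (m + ys.length) (q - p)
  | [], N, _, _, _, _, _, m, hN, q => by
    have hbot : (Ideal.ofList ([] : List R) • ⊤ : Submodule R N) = ⊥ := by
      rw [Ideal.ofList_nil, Submodule.bot_smul]
    let e' := ((CohIII.TFun P q).mapIso (Submodule.quotEquivOfEqBot _ hbot).toModuleIso).toLinearEquiv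
    exact e'.length_eq.trans (hN q)
  | y :: ys, N, _, _, _, hys, hreg, m, hN, q => by
    obtain ⟨hy, hyr⟩ := (isWeaklyRegular_cons_iff N y ys).1 hreg
    have hstep : ∀ q, Module.length R (CohIII.T P q (ModuleCat.of R (QuotSMulTop y N))) = chZ (m + 1) (q - p) := by
      intro q
      let π : N →ₗ[R] QuotSMulTop y N := Submodule.mkQ _
      let μ : N →ₗ[R] N := y • LinearMap.id
      have hw : π ∘ₗ μ = 0 := LinearMap.ext fun v =>
        (Submodule.Quotient.mk_eq_zero _).2 (Submodule.smul_mem_pointwise_smul v y ⊤ trivial)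
      let S : ShortComplex (ModuleCat.{u} R) :=
        ShortComplex.mk (ModuleCat.ofHom μ) (ModuleCat.ofHom π) (ModuleCat.hom_ext hw)
      have hS : S.ShortExact :=
        { exact := (ShortComplex.moduleCat_exact_iff _).2 fun x hx => by
            obtain ⟨v, -, hv⟩ :=
              (Submodule.mem_smul_pointwise_iff_exists _ _ _).1 ((Submodule.Quotient.mk_eq_zero _).1 hx)
            exact ⟨v, hv⟩
          mono_f := (ModuleCat.mono_iff_injective _).2 hy
          epi_g := (ModuleCat.epi_iff_surjective _).2 (Submodule.mkQ_surjective _) }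
      have hC := FlatCxLib.shortExact_tensorSC (P := P) hP hS
      have hij : (ComplexShape.down ℤ).Rel q (q - 1) := sub_add_cancel q 1
      have hμ : ∀ (j : ℤ) (v : CohIII.T P j (ModuleCat.of R N)),
          (HomologicalComplex.homologyMap (FlatCxLib.tensorSC P S).f j).hom v = 0 := fun j v =>
        (FlatCxLib.tfun_map_smul j (ModuleCat.of R N) y v).trans
          ((killed P hP hc h0 I hk j N).2 y (hys y List.mem_cons_self) v)
      have e2 := (ShortComplex.moduleCat_exact_iff _).1 (hC.homology_exact₂ q)
      have e3 := (ShortComplex.ShortExact.moduleCat_exact_iff_function_exact _).1 (hC.homology_exact₃ q (q - 1) hij)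
      have e1 := (ShortComplex.moduleCat_exact_iff _).1 (hC.homology_exact₁ q (q - 1) hij)
      refine (Module.length_eq_add_of_exact
        (HomologicalComplex.homologyMap (FlatCxLib.tensorSC P S).g q).hom (hC.δ q (q - 1) hij).hom ?_ ?_ e3).trans ?_
      · rw [injective_iff_map_eq_zero]
        intro v hv
        obtain ⟨w, rfl⟩ := e2 v hv
        exact hμ q w
      · exact fun v => e1 v (hμ (q - 1) v)
      · rw [chZ_succ, Nat.cast_add]
        refine congrArg₂ (· + ·) (hN q) ((hN (q - 1)).trans ?_)
        rw [show q - 1 - p = q - p - 1 by ring]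
    have h := length_iter hP hc h0 I hk ys (QuotSMulTop y N) (fun z hz => hys z (List.mem_cons_of_mem _ hz)) hyr
      (m + 1) hstep q
    let e' := ((CohIII.TFun P q).mapIso
      (Submodule.quotOfListConsSMulTopEquivQuotSMulTopInner N y ys).toModuleIso).toLinearEquiv
    rw [List.length_cons, show m + (ys.length + 1) = m + 1 + ys.length by ring]
    exact e'.length_eq.trans h

end

section

variable [IsRegularLocalRing R]

open IsLocalRing in
/-- the Betti numbers of the residue field -/
theorem length_residue {g : ℕ} (hg : ringKrullDim R = g) (hP : ∀ i, Module.Flat R (P.X i)) {c p : ℤ}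
    (hc : ∀ i, i < c → IsZero (P.X i)) (h0 : ∀ q, q ≠ p → IsZero (P.homology q))
    (hk : ∀ t ∈ maximalIdeal R, ∀ v : P.homology p, t • v = 0) (h1 : Module.length R (P.homology p) = 1) (q : ℤ) :
    Module.length R (CohIII.T P q (ModuleCat.of R (R ⧸ maximalIdeal R))) = chZ g (q - p) := by
  let fin := Submodule.FG.finite_generators (maximalIdeal R).fg_of_isNoetherianRing
  let l := fin.toFinset.toList
  have hl : l.length = g := by
    rw [Finset.length_toList, ← Set.ncard_eq_toFinset_card _ fin,
      Submodule.FG.generators_ncard (maximalIdeal R).fg_of_isNoetherianRing,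
      CAlgGlobalDim.spanFinrank_eq_of_dim R g hg]
  have hs : Ideal.ofList l = maximalIdeal R :=
    (congrArg Ideal.span (Set.ext fun z => by simp [l])).trans (maximalIdeal R).span_generators
  have hreg := CAlgGlobalDim.isWeaklyRegular_of_generators g R _ hl hs
    (CAlgGlobalDim.spanFinrank_eq_of_dim R g hg).ge
  have hbase : ∀ q, Module.length R (CohIII.T P q (ModuleCat.of R R)) = chZ 0 (q - p) := by
    intro q
    let e := ((HomologicalComplex.homologyFunctor _ _ q).mapIso (QCoh.tensorSelfIso P)).toLinearEquiv
    refine e.length_eq.trans ?_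
    rw [chZ_zero]
    by_cases h : q = p
    · subst h
      rw [if_pos (sub_self q)]
      exact h1
    · rw [if_neg (sub_ne_zero.2 h), Nat.cast_zero, Module.length_eq_zero_iff]
      exact ModuleCat.subsingleton_of_isZero (h0 q h)
  have h := length_iter P hP hc h0 (maximalIdeal R) hk l R (fun z hz => hs.le (Ideal.subset_span hz)) hreg 0 hbase q
  rw [Nat.zero_add, hl] at h
  let e' := ((CohIII.TFun P q).mapIso (Submodule.quotEquivOfEq (maximalIdeal R)
    (Ideal.ofList l • ⊤ : Submodule R R) (by rw [smul_eq_mul, Ideal.mul_top, hs])).toModuleIso).toLinearEquiv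
  exact e'.length_eq.trans h

end

end Groth.Agent.AVPoinc

end
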