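import Groth.Agent.AVPoinc.Stalk
import Groth.Agent.AVPoinc.TorCount
import Groth.Agent.AVEuler.FibreRank
import Groth.Agent.QCoh.LocalExchange
import Groth.Agent.Snapper.DimVanish
import Groth.Agent.FibDim.BaseField

/-!
# The cohomology of the structure sheaf from a Poincaré family

A family of invertible modules on the product with a group of the same dimension, trivial exactly at the unit
scheme-theoretically and without higher direct images off the unit, shows that the dimensions of the cohomology of the slice at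
the unit are binomial coefficients.
-/

noncomputable section

set_option autoImplicit false
set_option backward.isDefEq.respectTransparency false
set_option backward.isDefEq.respectTransparency.types false
set_option linter.style.haveILetI false
set_option linter.unusedSectionVars false
set_option maxHeartbeats 1000000

universe u

open CategoryTheory CategoryTheory.Limits MonoidalCategory CartesianMonoidalCategory MonObj AlgebraicGeometry TopologicalSpace

attribute [-instance] CategoryTheory.catToReflQuiver

namespace Groth.Agent.AVPoinc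

open Groth.Agent.H23 Groth.Agent.H23.TrivBasic Groth.Agent.QCoh
open scoped Groth.Agent.H23.PicMul

variable {k : Type u} [Field k] {A At : Over (Spec (CommRingCat.of k))}
  [GrpObj A] [IsProper A.hom] [Smooth A.hom] [GeometricallyConnected A.hom]
  [GrpObj At] [IsProper At.hom] [Smooth At.hom] [GeometricallyConnected At.hom]
  {P : (pullback A.hom At.hom).Modules}

set_option maxHeartbeats 3000000 in
/-- the local model at the unit has the residue field as only homology, so the fibre ranks are binomial coefficients -/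
theorem fiberRank_unit (hP : PicF.IsInvertible P)
    (h1 : ∀ T : Over (Spec (CommRingCat.of k)),
      Triv ((Scheme.Modules.pullback (PicF.XTmap A.hom (1 : T ⟶ At))).obj P))
    (he : ∀ {T : Over (Spec (CommRingCat.of k))} (v : T ⟶ At),
      Triv ((Scheme.Modules.pullback (PicF.XTmap A.hom v)).obj P) → v = 1)
    (hoff : ∀ y : At.left, y ≠ unitPt → ∀ q : ℕ,
      ∃ U : At.left.Opens, y ∈ U ∧ IsZero (((Coh.Rpush (pullback.snd A.hom At.hom) q).obj P).restrict U.ι))
    {g : ℕ} (hgA : topologicalKrullDim A.left = g) (hg : topologicalKrullDim At.left = g) (n : ℕ) :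
    CohIII.fiberRank (pullback.snd A.hom At.hom) P n unitPt = g.choose n := by
  classical
  haveI : IsLocallyNoetherian At.left := LocallyOfFiniteType.isLocallyNoetherian At.hom
  haveI : IsLocallyNoetherian (pullback A.hom At.hom) :=
    LocallyOfFiniteType.isLocallyNoetherian (pullback.snd A.hom At.hom)
  haveI : IsLocallyNoetherian A.left := LocallyOfFiniteType.isLocallyNoetherian A.hom
  haveI : CompactSpace A.left := QuasiCompact.compactSpace_of_compactSpace A.hom
  haveI : IsNoetherian A.left := {}
  haveI : A.left.IsSeparated := ⟨by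
    rw [show terminal.from A.left = A.hom ≫ terminal.from _ from terminal.hom_ext _ _]
    infer_instance⟩
  let f := pullback.snd A.hom At.hom
  have hPc := AmpleVan.isCoh_invertible hP
  have hPf := AVEuler.isFlatOver_of_finLocFree f (ParaFX.FlatDesc.isFinLocFree_of_invertible hP)
  have hgen : ∀ y : At.left, y ≠ unitPt → ∀ q : ℕ,
      ∃ U : At.left.Opens, y ∈ U ∧ IsZero (((Coh.Rpush f q).obj P).restrict U.ι) := hoff
  have hgt : ∀ q : ℕ, g < q → IsZero ((Coh.Rpush f q).obj P) := fun q hq => AVVanish.isZero_of_locally fun y => by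
    by_cases hy : y = unitPt
    · subst hy
      refine S2385.result f P hPc hPf _ q ?_
      exact (AVVanish.subsingleton_fiberH_iff (isPullback_xtMap η[At]) At.hom (Over.w η[At]) hPc.1 q).2 (by
        haveI : IsLocallyNoetherian (𝟙_ (Over (Spec (CommRingCat.of k)))).left :=
          inferInstanceAs (IsLocallyNoetherian (Spec (CommRingCat.of k)))
        haveI : CompactSpace ↥(𝟙_ (Over (Spec (CommRingCat.of k)))).left :=
          inferInstanceAs (CompactSpace (PrimeSpectrum k))
        haveI : IsLocallyNoetherian (pullback A.hom (𝟙_ (Over (Spec (CommRingCat.of k)))).hom) :=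
          LocallyOfFiniteType.isLocallyNoetherian (pullback.snd A.hom (𝟙_ (Over (Spec (CommRingCat.of k)))).hom)
        haveI : CompactSpace ↥(pullback A.hom (𝟙_ (Over (Spec (CommRingCat.of k)))).hom) :=
          QuasiCompact.compactSpace_of_compactSpace (pullback.snd A.hom (𝟙_ (Over (Spec (CommRingCat.of k)))).hom)
        haveI : IsNoetherian (pullback A.hom (𝟙_ (Over (Spec (CommRingCat.of k)))).hom) := {}
        haveI : (pullback A.hom (𝟙_ (Over (Spec (CommRingCat.of k)))).hom).IsSeparated := ⟨by
          rw [show terminal.from (pullback A.hom (𝟙_ (Over (Spec (CommRingCat.of k)))).hom) =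
            pullback.snd A.hom (𝟙_ (Over (Spec (CommRingCat.of k)))).hom ≫
              terminal.from (Spec (CommRingCat.of k)) from terminal.hom_ext _ _]
          haveI : IsSeparated (pullback.snd A.hom (𝟙_ (Over (Spec (CommRingCat.of k)))).hom) := inferInstance
          haveI : IsSeparated (terminal.from (Spec (CommRingCat.of k))) :=
            (inferInstance : (Spec (CommRingCat.of k)).IsSeparated).1
          infer_instance⟩
        haveI : Subsingleton ↥(𝟙_ (Over (Spec (CommRingCat.of k)))).left :=
          inferInstanceAs (Subsingleton (PrimeSpectrum k))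
        haveI : Nonempty ↥(𝟙_ (Over (Spec (CommRingCat.of k)))).left :=
          inferInstanceAs (Nonempty (PrimeSpectrum k))
        refine Snapper.subsingleton_HH_of_dim_le ?_ (AmpleVan.isCoh_invertible (PicClLib.isInvertible_pullback _ hP)).1 hq
        exact ((FibDim.topologicalKrullDim_baseChange (IsPullback.of_hasPullback A.hom
          (𝟙_ (Over (Spec (CommRingCat.of k)))).hom)).trans hgA).le)
    · exact hgen y hy q
  obtain ⟨_, ⟨V, hV, rfl⟩, hy, -⟩ :=
    At.left.isBasis_affineOpens.exists_subset_of_mem_open (Set.mem_univ (unitPt (At := At))) isOpen_univ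
  replace hV : IsAffineOpen V := hV
  have hcl := isClosed_unitPt (At := At)
  haveI : IsRegularLocalRing (At.left.presheaf.stalk unitPt) := GrpSchLib.isRegularLocalRing_stalk_of_smooth At.hom _
  obtain ⟨Pm, hPm, hsec⟩ := exists_model (f := f) hPc hPf hV hy
  obtain ⟨hreg, hdim, hflat, hflen, hvan⟩ := AVEuler.local_facts f hPc unitPt
    ((GrpSchLib.ringKrullDim_stalk_eq hcl).trans hg) (fun y' _ hne q => hgen y' hne q) hV hy Pm hPm
  haveI : IsNoetherianRing Γ(At.left, V) := IsLocallyNoetherian.component_noetherian ⟨V, hV⟩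
  let x := hV.primeIdealOf ⟨unitPt, hy⟩
  let B := Localization.AtPrime x.asIdeal
  haveI : IsRegularLocalRing B := hreg
  let Q := QCoh.locCx Pm x
  obtain ⟨c, hc⟩ := hPm.2.2.1
  have hvan' : ∀ q : ℤ, q ≠ -(g : ℤ) → IsZero (Q.homology q) := by
    intro q hq
    by_cases hpos : 0 < q
    · exact (QCoh.isZero_T_locCx Pm x (hPm.2.2.2.1 q hpos) (ModuleCat.of B B)).of_iso
        ((HomologicalComplex.homologyFunctor _ _ q).mapIso (QCoh.tensorSelfIso Q)).symm
    · obtain ⟨m, rfl⟩ : ∃ m : ℕ, q = -(m : ℤ) := ⟨q.natAbs, by omega⟩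
      by_cases hm : m < g
      · exact hvan m hm
      · obtain ⟨l⟩ := hPm.2.2.2.2.1 m
        haveI := QCoh.subsingleton_Γ_of_isZero (hgt m (by omega)) V
        haveI : Subsingleton (Pm.homology (-(m : ℤ))) := l.symm.toEquiv.subsingleton
        obtain ⟨eT⟩ := QCoh.nonempty_homology_locCx Pm x (-(m : ℤ))
        haveI : Subsingleton (Q.homology (-(m : ℤ))) := eT.toEquiv.subsingleton
        exact ModuleCat.isZero_of_subsingleton _
  have hcyc : ∃ z : CohIII.T Q 0 (ModuleCat.of B (B ⧸ IsLocalRing.maximalIdeal B)), z ≠ 0 ∧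
      ∀ w, ∃ b : B, w = b • z := by
    obtain ⟨X', g', pB, hsq, -, hcl'⟩ := sections_quot_of hP h1 he hV hy (IsLocalRing.maximalIdeal B)
      (Ideal.pow_le_self two_ne_zero) le_rfl
    obtain ⟨s₀, hs₀, hgen'⟩ := hcl' rfl
    obtain ⟨e, he'⟩ := hsec _ X' g' pB hsq
    refine ⟨e.symm s₀, fun h => hs₀ ?_, fun w => ?_⟩
    · rw [← e.apply_symm_apply s₀, h, map_zero]
    · obtain ⟨b, hb⟩ := hgen' (e w)
      exact ⟨b, e.injective (by rw [he', e.apply_symm_apply]; exact hb)⟩
  obtain ⟨z₀, hz₀, hz₀g⟩ := hcyc
  obtain ⟨z₁, hkill, hgen1, ⟨e₁⟩⟩ := homology_simple Q hdim hflat (fun q hq => hvan' q hq.ne') (hflen g) ⟨z₀, hz₀g⟩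
    fun J j1 j2 j3 w t ht => by
      obtain ⟨X', g', pB, hsq, hsecs, -⟩ := sections_quot_of hP h1 he hV hy J j1 j2
      obtain ⟨e, he'⟩ := hsec J X' g' pB hsq
      exact e.injective (by rw [he', map_zero]; exact hsecs j3 (e w) t ht)
  have hkill' : ∀ t ∈ IsLocalRing.maximalIdeal B, ∀ v : Q.homology (-(g : ℤ)), t • v = 0 := fun t ht v => by
    obtain ⟨b, rfl⟩ := hgen1 v
    rw [smul_comm, hkill t ht, smul_zero]
  have hlen : Module.length B (Q.homology (-(g : ℤ))) = 1 := by
    rw [Module.length_eq_one_iff, isSimpleModule_iff_toSpanSingleton_surjective]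
    refine ⟨nontrivial_of_ne (e₁ z₀) 0 fun h => hz₀ (e₁.injective (h.trans (map_zero _).symm)), fun v hv w => ?_⟩
    obtain ⟨a, rfl⟩ := hgen1 v
    obtain ⟨b, rfl⟩ := hgen1 w
    have ha : IsUnit a := by
      by_contra h
      exact hv (hkill a h)
    obtain ⟨a', ha'⟩ := ha.exists_left_inv
    exact ⟨b * a', by
      show (b * a') • a • z₁ = b • z₁
      rw [smul_smul, _root_.mul_assoc, ha', _root_.mul_one]⟩
  have hcount := length_residue Q hdim hflat (c := c)
    (fun i hi => (ModuleCat.extendScalars (algebraMap Γ(At.left, V) B)).map_isZero (hc i hi)) hvan' hkill' hlen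
    (-(n : ℤ))
  -- the fibre rank
  let J := IsLocalRing.maximalIdeal B
  letI : Field (B ⧸ J) := Ideal.Quotient.field J
  let φ : Γ(At.left, V) →+* B ⧸ J := (Ideal.Quotient.mk J).comp (algebraMap Γ(At.left, V) B)
  have hker : RingHom.ker φ = x.asIdeal := by
    ext a
    rw [RingHom.mem_ker, RingHom.comp_apply, Ideal.Quotient.eq_zero_iff_mem]
    exact IsLocalization.AtPrime.to_map_mem_maximal_iff B x.asIdeal a
  haveI := QCoh.finite_homology_bc φ Pm hPm.1 (-(n : ℤ))
  obtain ⟨e, hesm⟩ := exists_tfun_quot Q J (-(n : ℤ))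
  let e₄ := ((HomologicalComplex.homologyFunctor _ _ (-(n : ℤ))).mapIso
    (bcCxComp (algebraMap Γ(At.left, V) B) (Ideal.Quotient.mk J) Pm)).toLinearEquiv
  let H := (CohIII.bcCx (Ideal.Quotient.mk J) Q).homology (-(n : ℤ))
  letI : Module B H := Module.compHom H (Ideal.Quotient.mk J)
  haveI : IsScalarTower B (B ⧸ J) H := ⟨fun b y v => by
    induction y using Quotient.inductionOn with
    | h y => exact mul_smul (Ideal.Quotient.mk J b) (Ideal.Quotient.mk J y) v⟩
  let el : CohIII.T Q (-(n : ℤ)) (ModuleCat.of B (B ⧸ J)) ≃ₗ[B] H := e.toLinearEquiv hesm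
  haveI : Module.Finite (B ⧸ J) H :=
    Module.Finite.equiv (M := (CohIII.bcCx φ Pm).homology (-(n : ℤ))) e₄
  have hfr : (Module.finrank (B ⧸ J) H : ℕ∞) = chZ g (-(n : ℤ) - -(g : ℤ)) := by
    rw [← Module.length_eq_finrank, ← hcount, el.length_eq]
    exact (Module.length_eq_of_surjective (M := H) Ideal.Quotient.mk_surjective).symm
  rw [(hPm.2.2.2.2.2 n unitPt hy).1, ← finrank_bc_eq_dRank φ Pm x hker]
  refine e₄.finrank_eq.trans ((Nat.cast_inj.1 hfr).trans ?_)
  unfold chZ
  by_cases hn : n ≤ g
  · rw [if_pos (by omega), show (-(n : ℤ) - -(g : ℤ)).toNat = g - n by omega, Nat.choose_symm hn]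
  · rw [if_neg (by omega), Nat.choose_eq_zero_of_lt (by omega)]

end Groth.Agent.AVPoinc

end
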