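import Groth.Agent.Lib.AbDualBase
import Groth.Agent.AVVanish.Fibre
import Groth.Agent.S7804
import Groth.Agent.S2385

/-!
# The Poincaré bundle off the unit of the dual

On a fibre over a point other than the unit the Poincaré bundle has no cohomology.
-/

noncomputable section

set_option autoImplicit false
set_option backward.isDefEq.respectTransparency false
set_option backward.isDefEq.respectTransparency.types false
set_option linter.style.haveILetI false
set_option maxHeartbeats 1000000

universe u

open CategoryTheory CategoryTheory.Limits MonoidalCategory CartesianMonoidalCategory MonObj AlgebraicGeometry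

attribute [-instance] CategoryTheory.catToReflQuiver

namespace Groth.Agent.AVPoinc

open Groth.Agent.H23 Groth.Agent.H23.TrivBasic Groth.Agent.AbDualBase
open scoped Groth.Agent.H23.PicMul CategoryTheory.Obj

variable {k : Type u} [Field k] {A At : Over (Spec (CommRingCat.of k))}

/-- the slice over a point is a base change -/
theorem isPullback_xtMap {T : Over (Spec (CommRingCat.of k))} (v : T ⟶ At) :
    IsPullback (PicF.XTmap A.hom v) (pullback.snd A.hom T.hom) (pullback.snd A.hom At.hom) v.left := by
  have h1 : PicF.XTmap A.hom v ≫ pullback.fst A.hom At.hom = pullback.fst A.hom T.hom :=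
    (pullback.lift_fst _ _ _).trans (Category.comp_id _)
  have h2 : PicF.XTmap A.hom v ≫ pullback.snd A.hom At.hom = pullback.snd A.hom T.hom ≫ v.left :=
    pullback.lift_snd _ _ _
  refine IsPullback.of_right ?_ h2 (IsPullback.of_hasPullback A.hom At.hom)
  rw [h1, Over.w v]
  exact IsPullback.of_hasPullback A.hom T.hom

variable [GrpObj A] [GrpObj At] {φ : ∀ T : Over (Spec (CommRingCat.of k)), PicF.Cl (PicF.XT A.hom T) → (T ⟶ At)}
  (hφ : AbDual.IsDualAV Scheme.fppfPrecoverage A At φ) {P : (pullback A.hom At.hom).Modules}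
  (hP : PicF.IsInvertible P) (hξ : AbDual.IsPoincareCl A At φ (PicF.cl P))
include hφ hξ

/-- a point at which the Poincaré bundle is trivial is the unit -/
theorem eq_one_of_triv {T : Over (Spec (CommRingCat.of k))} (v : T ⟶ At)
    (h : Triv ((Scheme.Modules.pullback (PicF.XTmap A.hom v)).obj P)) : v = 1 := by
  have h1 := hφ.relPic.natural At T v (PicF.cl P) hξ.1
  have h2 : PicF.pullCl (PicF.XTmap A.hom v) (PicF.cl P : PicF.Cl (PicF.XT A.hom At)) = 1 :=
    (PicGrp.cl_eq_cl_iff _ _).2 h
  rw [h2, phi_one hφ T, hξ.2.1, Category.comp_id] at h1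
  exact h1.symm

include hP

/-- no cohomology on the fibres off the unit -/
theorem subsingleton_fiberH_offUnit [IsProper A.hom] [Smooth A.hom] [GeometricallyConnected A.hom]
    [IsProper At.hom] (y : At.left)
    (hy : y ≠ η[At].left (IsLocalRing.closedPoint k)) (n : ℕ) :
    Subsingleton (CohIII.fiberH (pullback.snd A.hom At.hom) P y n) := by
  let f := pullback.snd A.hom At.hom
  let κ : Type u := At.left.residueField y
  let Ω := AlgebraicClosure κ
  let alg : Spec (CommRingCat.of Ω) ⟶ Spec (CommRingCat.of κ) := Spec.map (CommRingCat.ofHom (algebraMap κ Ω))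
  let j : Spec (CommRingCat.of Ω) ⟶ At.left := alg ≫ At.left.fromSpecResidueField y
  let σ := j ≫ At.hom
  let v : Over.mk σ ⟶ At := Over.homMk j rfl
  let c := PicF.pullCl (PicF.XTmap A.hom v) (PicF.cl P : PicF.Cl (PicF.XT A.hom At))
  have hc : AbDual.IsPicZeroCl A.hom (Over.mk σ) c := pz_xtMap v hξ.1
  obtain ⟨L, hL, hcL, hz⟩ := algEquiv_of_pz σ hc
  let Z := (Over.pullback σ).obj A
  letI : GrpObj Z := Functor.grpObjObj
  haveI : IsProper Z.hom := inferInstanceAs (IsProper (pullback.snd A.hom σ))
  haveI : GeometricallyIntegral Z.hom := geometricallyIntegral_fibre σ A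
  have hne : ¬ Nonempty (L ≅ Coh.structureModule Z.left) := by
    intro hL1
    have hv : v = 1 := eq_one_of_triv hφ hξ v
      ((PicGrp.cl_eq_cl_iff _ _).1 (hcL.trans ((PicGrp.cl_eq_cl_iff _ _).2 hL1)))
    have h3 := congrArg CommaMorphism.left hv
    rw [Hom.one_def] at h3
    refine hy ?_
    have h4 : j (IsLocalRing.closedPoint Ω) = η[At].left (σ (IsLocalRing.closedPoint Ω)) :=
      congr($h3 (IsLocalRing.closedPoint Ω))
    haveI : Subsingleton (Spec (CommRingCat.of k)) := inferInstanceAs (Subsingleton (PrimeSpectrum k))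
    rw [Subsingleton.elim (σ (IsLocalRing.closedPoint Ω)) (IsLocalRing.closedPoint k)] at h4
    rw [← h4]
    exact (At.left.fromSpecResidueField_apply y _).symm
  have hadd : Nonempty ((Scheme.Modules.pullback μ[Z].left).obj L ≅
      CohB1.tensorMod ((Scheme.Modules.pullback (fst Z Z).left).obj L) ((Scheme.Modules.pullback (snd Z Z).left).obj L)) := by
    refine PicMul.cl_eq_iff.1 ?_
    have h := AVDecomp.additive hL hz (fst Z Z) (snd Z Z)
    rw [show fst Z Z * snd Z Z = μ[Z] from by rw [Hom.mul_def, lift_fst_snd, Category.id_comp]] at h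
    exact h
  have hvan := (S7804.result Ω Z L hL hadd).1 hne n
  have hsq := isPullback_xtMap (A := A) v
  have hfib := IsPullback.of_hasPullback f (At.left.fromSpecResidueField y)
  let θ : Z.left ⟶ f.fiber y :=
    hfib.lift (PicF.XTmap A.hom v) (pullback.snd A.hom σ ≫ alg) (hsq.w.trans (Category.assoc _ _ _).symm)
  have hθ : θ ≫ f.fiberι y = PicF.XTmap A.hom v := hfib.lift_fst _ _ _
  letI : (f.fiber y).Over (Spec (CommRingCat.of κ)) := ⟨f.fiberToSpecResidueField y⟩
  letI : Z.left.Over (Spec (CommRingCat.of Ω)) := ⟨pullback.snd A.hom σ⟩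
  have hpb : IsPullback θ (Z.left ↘ Spec (CommRingCat.of Ω)) (f.fiber y ↘ Spec (CommRingCat.of κ)) alg :=
    IsPullback.of_right (h₁₂ := f.fiberι y) (h₂₂ := At.left.fromSpecResidueField y) (by rw [hθ]; exact hsq)
      (hfib.lift_snd _ _ _) hfib
  haveI : IsProper (f.fiber y ↘ Spec (CommRingCat.of κ)) :=
    inferInstanceAs (IsProper (pullback.snd f (At.left.fromSpecResidueField y)))
  haveI : CompactSpace (f.fiber y) :=
    QuasiCompact.compactSpace_of_compactSpace (f.fiber y ↘ Spec (CommRingCat.of κ))
  haveI : (f.fiber y).IsSeparated := ⟨by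
    rw [← Limits.terminal.comp_from (f.fiber y ↘ Spec (CommRingCat.of κ))]
    infer_instance⟩
  haveI : IsLocallyNoetherian At.left := LocallyOfFiniteType.isLocallyNoetherian At.hom
  haveI : IsLocallyNoetherian (pullback A.hom At.hom) :=
    LocallyOfFiniteType.isLocallyNoetherian (pullback.snd A.hom At.hom)
  have hF : Coh.IsQCoh (CohIII.fiberMod f P y) := QCoh.isQCoh_pullback _ (AmpleVan.isCoh_invertible hP).1
  obtain ⟨e⟩ := QCoh.nonempty_HH_flat_bc (A := κ) (B := Ω) θ hpb hF n
  have hiso : Nonempty (L ≅ (Scheme.Modules.pullback θ).obj (CohIII.fiberMod f P y)) := by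
    refine (PicGrp.cl_eq_cl_iff _ _).1 ?_
    refine hcL.symm.trans ?_
    show PicF.pullCl (PicF.XTmap A.hom v) (PicF.cl P) = PicF.pullCl θ (PicF.pullCl (f.fiberι y) (PicF.cl P))
    rw [PicClLib.pullCl_comp, hθ]
  have := QCoh.subsingleton_HH_of_iso hiso.some n hvan
  haveI : Subsingleton (TensorProduct κ Ω (Coh.HH (f.fiber y) (CohIII.fiberMod f P y) n)) :=
    e.symm.toEquiv.subsingleton
  exact (Module.FaithfullyFlat.subsingleton_tensorProduct_iff_right κ Ω).1 inferInstance

end Groth.Agent.AVPoinc

end
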