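import Groth.Agent.AVPoinc.AtUnit
import Groth.Prelude.Def_CurvBase
import Groth.Agent.AVEuler.Degenerate
import Groth.Agent.AVVanish.PhiSurj
import Mathlib.RingTheory.Localization.BaseChange

/-!
# The stalk of the top higher direct image at the unit
-/

noncomputable section

set_option autoImplicit false
set_option backward.isDefEq.respectTransparency false
set_option backward.isDefEq.respectTransparency.types false
set_option linter.style.haveILetI false
set_option linter.unusedSectionVars false
set_option maxHeartbeats 1000000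

universe u

open CategoryTheory CategoryTheory.Limits MonoidalCategory CartesianMonoidalCategory MonObj AlgebraicGeometry TopologicalSpace
open scoped TensorProduct

attribute [-instance] CategoryTheory.catToReflQuiver

namespace Groth.Agent.AVPoinc

variable {k : Type u} [Field k] {At : Over (Spec (CommRingCat.of k))} [GrpObj At]

theorem const_id : (Scheme.ΓSpecIso (CommRingCat.of k)).inv ≫ At.hom.appTop ≫
    At.left.presheaf.germ ⊤ (unitPt (At := At)) trivial ≫ Scheme.stalkClosedPointTo η[At].left = 𝟙 (CommRingCat.of k) := by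
  have aux : ∀ m : Spec (CommRingCat.of k) ⟶ Spec (CommRingCat.of k), m = Spec.map (𝟙 _) →
      (Spec (CommRingCat.of k)).presheaf.germ ⊤ (m (IsLocalRing.closedPoint k)) trivial ≫ Scheme.stalkClosedPointTo m =
        (Scheme.ΓSpecIso (CommRingCat.of k)).hom := by
    rintro _ rfl
    exact (Scheme.germ_stalkClosedPointTo_Spec (𝟙 (CommRingCat.of k))).trans (Category.comp_id _)
  have h2 := aux (η[At].left ≫ At.hom) (by rw [Over.w, Spec.map_id]; rfl)
  rw [Scheme.stalkClosedPointTo_comp] at h2
  have h3 := (Scheme.Hom.germ_stalkMap_assoc At.hom ⊤ (η[At].left (IsLocalRing.closedPoint k)) trivial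
    (Scheme.stalkClosedPointTo η[At].left)).symm.trans h2
  exact (congrArg ((Scheme.ΓSpecIso (CommRingCat.of k)).inv ≫ ·) h3).trans (Iso.inv_hom_id _)

theorem const_apply (a : k) :
    (Scheme.stalkClosedPointTo η[At].left).hom (@Curv2.stalkMap k _ At.left ⟨At.hom⟩ unitPt a) = a := by
  have h := congrArg (fun m : CommRingCat.of k ⟶ CommRingCat.of k => m.hom) (const_id (At := At))
  rw [CommRingCat.hom_comp, CommRingCat.hom_comp, CommRingCat.hom_comp, CommRingCat.hom_id] at h
  have h' := RingHom.congr_fun h a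
  rw [RingHom.comp_apply, RingHom.comp_apply, RingHom.comp_apply, RingHom.id_apply] at h'
  exact h'

/-- the functions at the unit are constants modulo the maximal ideal -/
theorem exists_const (c : At.left.presheaf.stalk (unitPt (At := At))) :
    ∃ a : k, c - @Curv2.stalkMap k _ At.left ⟨At.hom⟩ unitPt a ∈ IsLocalRing.maximalIdeal _ := by
  let ε := Scheme.stalkClosedPointTo η[At].left
  refine ⟨ε.hom c, ?_⟩
  rw [IsLocalRing.mem_maximalIdeal, mem_nonunits_iff]
  intro hu
  have h2 := hu.map ε.hom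
  rw [map_sub] at h2
  refine not_isUnit_zero ((congrArg IsUnit ?_).mp h2)
  rw [sub_eq_zero]
  exact (const_apply _).symm

theorem isClosed_unitPt [IsProper At.hom] : IsClosed ({unitPt} : Set At.left) := by
  haveI := isClosedImmersion_unit (At := At)
  haveI : Subsingleton ↥(𝟙_ (Over (Spec (CommRingCat.of k)))).left := inferInstanceAs (Subsingleton (PrimeSpectrum k))
  have h := η[At].left.isClosedEmbedding.isClosed_range
  rwa [show Set.range η[At].left = {unitPt} from Set.eq_singleton_iff_unique_mem.2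
    ⟨⟨_, rfl⟩, by rintro _ ⟨z, rfl⟩; exact congrArg η[At].left (Subsingleton.elim _ _)⟩] at h

section Family

variable {A : Over (Spec (CommRingCat.of k))} (P : (pullback A.hom At.hom).Modules)

/-- the module is trivial on the slices at the unit -/
def UnitTriv : Prop :=
  ∀ T : Over (Spec (CommRingCat.of k)),
    Groth.Agent.H23.TrivBasic.Triv ((Scheme.Modules.pullback (PicF.XTmap A.hom (1 : T ⟶ At))).obj P)

/-- the module is trivial at the unit only -/
def TrivAtUnit : Prop :=
  ∀ {T : Over (Spec (CommRingCat.of k))} (v : T ⟶ At),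
    Groth.Agent.H23.TrivBasic.Triv ((Scheme.Modules.pullback (PicF.XTmap A.hom v)).obj P) → v = 1

/-- the higher direct images vanish off the unit -/
def OffVanish [HasInjectiveResolutions (pullback A.hom At.hom).Modules] : Prop :=
  ∀ y : At.left, y ≠ unitPt → ∀ n : ℕ,
    ∃ U : At.left.Opens, y ∈ U ∧ IsZero (((Coh.Rpush (pullback.snd A.hom At.hom) n).obj P).restrict U.ι)

variable [GrpObj A] [IsProper A.hom] [Smooth A.hom] [GeometricallyConnected A.hom]
  [IsProper At.hom] [Smooth At.hom] [GeometricallyConnected At.hom]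
  [HasInjectiveResolutions (pullback A.hom At.hom).Modules] {P}

/-- higher direct images vanish below the dimension of the dual -/
theorem isZero_Rpush_lt_of (hP : PicF.IsInvertible P) (hoff : OffVanish P) {g : ℕ} (hg : topologicalKrullDim At.left = g) {n : ℕ} (hn : n < g) :
    IsZero ((Coh.Rpush (pullback.snd A.hom At.hom) n).obj P) := by
  haveI : IsLocallyNoetherian At.left := LocallyOfFiniteType.isLocallyNoetherian At.hom
  haveI : IsLocallyNoetherian (pullback A.hom At.hom) :=
    LocallyOfFiniteType.isLocallyNoetherian (pullback.snd A.hom At.hom)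
  refine AVVanish.isZero_of_locally fun y => ?_
  by_cases hy : y = unitPt
  · subst hy
    have hcl := isClosed_unitPt (At := At)
    haveI : IsRegularLocalRing (At.left.presheaf.stalk unitPt) := GrpSchLib.isRegularLocalRing_stalk_of_smooth At.hom _
    exact AVEuler.exists_isZero_Rpush_of_lt _ (AmpleVan.isCoh_invertible hP)
      (AVEuler.isFlatOver_of_finLocFree _ (ParaFX.FlatDesc.isFinLocFree_of_invertible hP)) unitPt
      ((GrpSchLib.ringKrullDim_stalk_eq hcl).trans hg) (fun y' _ hne q => hoff y' hne q) hn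
  · exact hoff y hy n

set_option maxHeartbeats 3000000 in
/-- the stalk at the unit of the top higher direct image is the residue field -/
theorem stalk_top_of (hP : PicF.IsInvertible P) (hu1 : UnitTriv P) (hue : TrivAtUnit P) (hoff : OffVanish P) {g : ℕ} (hg : topologicalKrullDim At.left = g) :
    ∃ z : ((Coh.Rpush (pullback.snd A.hom At.hom) g).obj P).presheaf.stalk unitPt, z ≠ 0 ∧
      (∀ v, ∃ a : k, v = @Curv2.stalkMap k _ At.left ⟨At.hom⟩ unitPt a • z) ∧
      ∀ c ∈ IsLocalRing.maximalIdeal (At.left.presheaf.stalk unitPt),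
        ∀ v : ((Coh.Rpush (pullback.snd A.hom At.hom) g).obj P).presheaf.stalk unitPt, c • v = 0 := by
  classical
  haveI : IsLocallyNoetherian At.left := LocallyOfFiniteType.isLocallyNoetherian At.hom
  haveI : IsLocallyNoetherian (pullback A.hom At.hom) :=
    LocallyOfFiniteType.isLocallyNoetherian (pullback.snd A.hom At.hom)
  let f := pullback.snd A.hom At.hom
  let F := (Coh.Rpush f g).obj P
  have hPc := AmpleVan.isCoh_invertible hP
  have hPf := AVEuler.isFlatOver_of_finLocFree f (ParaFX.FlatDesc.isFinLocFree_of_invertible hP)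
  have hF : Coh.IsQCoh F :=
    (QCoh.isCoh_Rpush_of_finiteness (f := f) hPc g fun A _ _ Z _ _ N hN j => S0002.result A Z N hN j).1
  obtain ⟨_, ⟨V, hV, rfl⟩, hy, -⟩ :=
    At.left.isBasis_affineOpens.exists_subset_of_mem_open (Set.mem_univ (unitPt (At := At))) isOpen_univ
  replace hV : IsAffineOpen V := hV
  have hcl := isClosed_unitPt (At := At)
  haveI : IsRegularLocalRing (At.left.presheaf.stalk unitPt) := GrpSchLib.isRegularLocalRing_stalk_of_smooth At.hom _
  obtain ⟨Pm, hPm, hsec⟩ := exists_model (f := f) hPc hPf hV hy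
  obtain ⟨hreg, hdim, hflat, hflen, hvan⟩ := AVEuler.local_facts f hPc unitPt
    ((GrpSchLib.ringKrullDim_stalk_eq hcl).trans hg) (fun y' _ hne q => hoff y' hne q)
    hV hy Pm hPm
  let x := hV.primeIdealOf ⟨unitPt, hy⟩
  let B := Localization.AtPrime x.asIdeal
  let Q := QCoh.locCx Pm x
  have hvan' : ∀ q : ℤ, -(g : ℤ) < q → IsZero (Q.homology q) := by
    intro q hq
    by_cases hpos : 0 < q
    · exact (QCoh.isZero_T_locCx Pm x (hPm.2.2.2.1 q hpos) (ModuleCat.of B B)).of_iso
        ((HomologicalComplex.homologyFunctor _ _ q).mapIso (QCoh.tensorSelfIso Q)).symm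
    · obtain ⟨n, rfl⟩ : ∃ n : ℕ, q = -(n : ℤ) := ⟨q.natAbs, by omega⟩
      exact hvan n (by omega)
  have hcyc : ∃ z : CohIII.T Q 0 (ModuleCat.of B (B ⧸ IsLocalRing.maximalIdeal B)), z ≠ 0 ∧
      ∀ w, ∃ b : B, w = b • z := by
    obtain ⟨X', g', pB, hsq, -, hcl'⟩ := sections_quot_of hP hu1 hue hV hy (IsLocalRing.maximalIdeal B)
      (Ideal.pow_le_self two_ne_zero) le_rfl
    obtain ⟨s₀, hs₀, hgen⟩ := hcl' rfl
    obtain ⟨e, he⟩ := hsec _ X' g' pB hsq
    refine ⟨e.symm s₀, fun h => hs₀ ?_, fun w => ?_⟩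
    · rw [← e.apply_symm_apply s₀, h, map_zero]
    · obtain ⟨b, hb⟩ := hgen (e w)
      exact ⟨b, e.injective (by rw [he, e.apply_symm_apply]; exact hb)⟩
  obtain ⟨z₀, hz₀, hz₀g⟩ := hcyc
  obtain ⟨z₁, hkill, hgen, ⟨e₁⟩⟩ := homology_simple Q hdim hflat hvan' (hflen g) ⟨z₀, hz₀g⟩
    fun J h1 h2 h3 w t ht => by
      obtain ⟨X', g', pB, hsq, hsecs, -⟩ := sections_quot_of hP hu1 hue hV hy J h1 h2
      obtain ⟨e, he⟩ := hsec J X' g' pB hsq
      exact e.injective (by rw [he, map_zero]; exact hsecs h3 (e w) t ht)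
  have hz₁ : z₁ ≠ 0 := by
    intro h
    refine hz₀ (e₁.injective ?_)
    obtain ⟨c, hc⟩ := hgen (e₁ z₀)
    rw [hc, h, smul_zero, map_zero]
  -- transport to the stalk
  letI := QCoh.stalkModule F hy
  letI := QCoh.stalkAlg (X := At.left) (U := V) hy
  haveI := QCoh.isLocalizedModule_germLin hF hV hy
  haveI := QCoh.isLocalization_stalk' (X := At.left) hV hy
  obtain ⟨l⟩ := hPm.2.2.2.2.1 g
  obtain ⟨eT⟩ := QCoh.nonempty_homology_locCx Pm x (-(g : ℤ))
  let H := Pm.homology (-(g : ℤ))
  haveI : IsLocalizedModule x.asIdeal.primeCompl (TensorProduct.mk Γ(At.left, V) B H 1) :=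
    (isLocalizedModule_iff_isBaseChange x.asIdeal.primeCompl B _).2 (TensorProduct.isBaseChange _ _ _)
  let ψ : Γ(F, V) →ₗ[Γ(At.left, V)] B ⊗[Γ(At.left, V)] H :=
    (TensorProduct.mk Γ(At.left, V) B H 1) ∘ₗ l.toLinearMap
  haveI : IsLocalizedModule x.asIdeal.primeCompl ψ := IsLocalizedModule.of_linearEquiv_right _ _ l
  let L := IsLocalizedModule.linearEquiv x.asIdeal.primeCompl (QCoh.germLin F hy) ψ
  let u := eT z₁
  have hkillT : ∀ a ∈ x.asIdeal, ∀ w : B ⊗[Γ(At.left, V)] H, a • w = 0 := fun a ha w => by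
    obtain ⟨m, rfl⟩ := eT.surjective w
    obtain ⟨c, rfl⟩ := hgen m
    rw [← IsScalarTower.algebraMap_smul B a, ← map_smul, smul_comm, hkill _
      ((IsLocalization.AtPrime.to_map_mem_maximal_iff B x.asIdeal a).2 ha), smul_zero, map_zero]
  have hgenT : ∀ w : B ⊗[Γ(At.left, V)] H, ∃ (r : Γ(At.left, V)) (s : x.asIdeal.primeCompl),
      (s : Γ(At.left, V)) • w = r • u := fun w => by
    obtain ⟨m, rfl⟩ := eT.surjective w
    obtain ⟨c, rfl⟩ := hgen m
    obtain ⟨⟨r, s⟩, hrs⟩ := IsLocalization.surj x.asIdeal.primeCompl c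
    refine ⟨r, s, ?_⟩
    rw [← IsScalarTower.algebraMap_smul B (s : Γ(At.left, V)), ← IsScalarTower.algebraMap_smul B r, ← map_smul,
      ← map_smul, ← mul_smul, mul_comm, hrs]
  have hst : ∀ (r : Γ(At.left, V)) (v : F.presheaf.stalk unitPt), r • v = At.left.presheaf.germ V unitPt hy r • v :=
    fun r v => rfl
  have hmax : ∀ c ∈ IsLocalRing.maximalIdeal (At.left.presheaf.stalk unitPt), ∀ v : F.presheaf.stalk unitPt, c • v = 0 := by
    intro c hc v
    obtain ⟨⟨r, s⟩, hrs⟩ := IsLocalization.surj x.asIdeal.primeCompl c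
    have hu : IsUnit (algebraMap Γ(At.left, V) (At.left.presheaf.stalk unitPt) (s : Γ(At.left, V))) :=
      IsLocalization.map_units _ s
    have hr : r ∈ x.asIdeal := by
      refine (IsLocalization.AtPrime.to_map_mem_maximal_iff (At.left.presheaf.stalk unitPt) x.asIdeal r).1 ?_
      rw [← hrs]
      exact Ideal.mul_mem_right _ _ hc
    have h1 : r • v = 0 := L.injective (by rw [map_smul, hkillT r hr, map_zero])
    refine (hu.smul_eq_zero).1 ?_
    rw [← mul_smul, mul_comm, hrs]
    exact (hst r v).symm.trans h1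
  refine ⟨L.symm u, fun h => hz₁ (eT.injective ?_), fun v => ?_, hmax⟩
  · rw [map_zero]
    exact L.symm.injective (h.trans (map_zero _).symm)
  · obtain ⟨r, s, hrs⟩ := hgenT (L v)
    have h1 : (s : Γ(At.left, V)) • v = r • L.symm u := L.injective (by rw [map_smul, map_smul, hrs, L.apply_symm_apply])
    rw [hst, hst] at h1
    have hu : IsUnit (At.left.presheaf.germ V unitPt hy (s : Γ(At.left, V))) :=
      IsLocalization.map_units (At.left.presheaf.stalk unitPt) s
    obtain ⟨c, hc⟩ := hu.exists_left_inv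
    obtain ⟨a, ha⟩ := exists_const (c * At.left.presheaf.germ V unitPt hy r)
    refine ⟨a, ?_⟩
    have h2 := congrArg (c • ·) h1
    simp only [smul_smul] at h2
    rw [hc, one_smul] at h2
    rw [h2, ← sub_eq_zero, ← sub_smul]
    exact hmax _ ha _

end Family

variable {A : Over (Spec (CommRingCat.of k))} [GrpObj A] [IsProper A.hom] [Smooth A.hom] [GeometricallyConnected A.hom]
  [IsProper At.hom] [Smooth At.hom] [GeometricallyConnected At.hom]
  {φ : ∀ T : Over (Spec (CommRingCat.of k)), PicF.Cl (PicF.XT A.hom T) → (T ⟶ At)}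
  (hφ : AbDual.IsDualAV Scheme.fppfPrecoverage A At φ) {P : (pullback A.hom At.hom).Modules}
  (hP : PicF.IsInvertible P) (hξ : AbDual.IsPoincareCl A At φ (PicF.cl P))
  [HasInjectiveResolutions (pullback A.hom At.hom).Modules]
include hφ hP hξ

/-- higher direct images vanish off the unit -/
theorem exists_isZero_offUnit (y : At.left) (hy : y ≠ unitPt) (n : ℕ) :
    ∃ U : At.left.Opens, y ∈ U ∧ IsZero (((Coh.Rpush (pullback.snd A.hom At.hom) n).obj P).restrict U.ι) := by
  haveI : IsLocallyNoetherian At.left := LocallyOfFiniteType.isLocallyNoetherian At.hom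
  haveI : IsLocallyNoetherian (pullback A.hom At.hom) :=
    LocallyOfFiniteType.isLocallyNoetherian (pullback.snd A.hom At.hom)
  exact S2385.result _ P (AmpleVan.isCoh_invertible hP)
    (AVEuler.isFlatOver_of_finLocFree _ (ParaFX.FlatDesc.isFinLocFree_of_invertible hP)) y n
    (subsingleton_fiberH_offUnit hφ hP hξ y hy n)

/-- higher direct images vanish below the dimension of the dual -/
theorem isZero_Rpush_lt {g : ℕ} (hg : topologicalKrullDim At.left = g) {n : ℕ} (hn : n < g) :
    IsZero ((Coh.Rpush (pullback.snd A.hom At.hom) n).obj P) :=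
  isZero_Rpush_lt_of hP (fun y hy n => exists_isZero_offUnit hφ hP hξ y hy n) hg hn

/-- the stalk at the unit of the top higher direct image is the residue field -/
theorem stalk_top {g : ℕ} (hg : topologicalKrullDim At.left = g) :
    ∃ z : ((Coh.Rpush (pullback.snd A.hom At.hom) g).obj P).presheaf.stalk unitPt, z ≠ 0 ∧
      (∀ v, ∃ a : k, v = @Curv2.stalkMap k _ At.left ⟨At.hom⟩ unitPt a • z) ∧
      ∀ c ∈ IsLocalRing.maximalIdeal (At.left.presheaf.stalk unitPt),
        ∀ v : ((Coh.Rpush (pullback.snd A.hom At.hom) g).obj P).presheaf.stalk unitPt, c • v = 0 :=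
  stalk_top_of hP (fun T => triv_one hφ hξ T) (fun v h => eq_one_of_triv hφ hξ v h)
    (fun y hy n => exists_isZero_offUnit hφ hP hξ y hy n) hg

end Groth.Agent.AVPoinc

end
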